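import Groth.Agent.PerfC.ProjMap

/-!
# The unit and the projection map
-/

set_option autoImplicit false

universe v₁ v₂ u₁ u₂

open CategoryTheory Category

namespace K870.ThetaAbs

open Groth.Agent.PerfC.ProjMap

variable {D : Type u₁} [Category.{v₁} D] {E : Type u₂} [Category.{v₂} E]
  {T : D ⥤ D ⥤ D} {T' : E ⥤ E ⥤ E} {L : D ⥤ E} {R : E ⥤ D} (adj : L ⊣ R)
  (M : T ⋙ (Functor.whiskeringRight _ _ _).obj L ⟶ L ⋙ T' ⋙ (Functor.whiskeringLeft _ _ _).obj L)

/-- `P ⊗ K ⟶ R L P ⊗ K ⟶ R (L P ⊗ L K)` is the transpose of `L (P ⊗ K) ⟶ L P ⊗ L K`. -/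
lemma unit_theta (P K : D) :
    (T.map (adj.unit.app P)).app K ≫ (theta adj M (L.obj P)).app K =
      adj.unit.app ((T.obj P).obj K) ≫ R.map (Ma M P K) := by
  rw [theta_app]
  have h1 := adj.unit.naturality ((T.map (adj.unit.app P)).app K)
  dsimp at h1
  rw [reassoc_of% h1, ← R.map_comp, ← R.map_comp, Ma_nat₁_assoc, ← NatTrans.comp_app, ← T'.map_comp,
    adj.left_triangle_components, T'.map_id, NatTrans.id_app, comp_id]

/-- Naturality in the module of the projection map. -/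
lemma theta_nat {A A' : E} (u : A' ⟶ A) (P : D) :
    (T.map (R.map u)).app P ≫ (theta adj M A).app P =
      (theta adj M A').app P ≫ R.map ((T'.map u).app (L.obj P)) := by
  rw [theta_app, theta_app]
  have h1 := adj.unit.naturality ((T.map (R.map u)).app P)
  dsimp at h1
  have h2 : R.map ((T'.map (L.map (R.map u))).app (L.obj P)) ≫
      R.map ((T'.map (adj.counit.app A)).app (L.obj P)) =
      R.map ((T'.map (adj.counit.app A')).app (L.obj P)) ≫ R.map ((T'.map u).app (L.obj P)) := by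
    rw [← R.map_comp, ← R.map_comp, ← NatTrans.comp_app, ← NatTrans.comp_app, ← T'.map_comp,
      ← T'.map_comp]
    erw [adj.counit.naturality u]
    rfl
  rw [reassoc_of% h1, assoc, assoc, ← R.map_comp_assoc, Ma_nat₁, R.map_comp_assoc, h2]

variable {I : D} {I' : E} (K : D) (l : (T.obj I).obj K ≅ K) (e : L.obj I ≅ I')
  (l' : (T'.obj I').obj (L.obj K) ≅ L.obj K) (hM : IsIso (Ma M I K))

/-- The automorphism of `L K` by which the map induced by `I ⟶ R I'` on `K` differs from the unit. -/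
noncomputable def alpha : L.obj K ≅ L.obj K :=
  L.mapIso l.symm ≪≫ @asIso _ _ _ _ (Ma M I K) hM ≪≫ (T'.mapIso e).app (L.obj K) ≪≫ l'

lemma alpha_hom : (alpha M K l e l' hM).hom =
    L.map l.inv ≫ Ma M I K ≫ (T'.map e.hom).app (L.obj K) ≫ l'.hom := rfl

/-- `K ≅ I ⊗ K ⟶ R I' ⊗ K ⟶ R (I' ⊗ L K) ≅ R L K` is the unit up to an automorphism of `L K`. -/
theorem unit_eq :
    l.inv ≫ (T.map (adj.unit.app I ≫ R.map e.hom)).app K ≫ (theta adj M I').app K ≫ R.map l'.hom =
      adj.unit.app K ≫ R.map (alpha M K l e l' hM).hom := by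
  have h1 := adj.unit.naturality l.inv
  dsimp at h1
  rw [alpha_hom, T.map_comp, NatTrans.comp_app, assoc]
  have h2 := theta_nat adj M e.hom K
  have h3 := unit_theta adj M I K
  calc l.inv ≫ (T.map (adj.unit.app I)).app K ≫ (T.map (R.map e.hom)).app K ≫
        (theta adj M I').app K ≫ R.map l'.hom
      = l.inv ≫ (T.map (adj.unit.app I)).app K ≫ ((T.map (R.map e.hom)).app K ≫
        (theta adj M I').app K) ≫ R.map l'.hom := by simp only [assoc]
    _ = l.inv ≫ ((T.map (adj.unit.app I)).app K ≫ (theta adj M (L.obj I)).app K) ≫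
        R.map ((T'.map e.hom).app (L.obj K)) ≫ R.map l'.hom := by
      rw [h2]; simp only [assoc]
    _ = _ := by
      rw [h3]
      simp only [Functor.map_comp, assoc]
      rw [reassoc_of% h1]

/-- If `I ⟶ R I'` has a retraction up to isomorphism, so does the unit `K ⟶ R L K`. -/
theorem exists_retraction (η : I ⟶ R.obj I') (hη : η = adj.unit.app I ≫ R.map e.hom)
    (hM : IsIso (Ma M I K)) (hθ : IsIso ((theta adj M I').app K))
    (η' : R.obj I' ⟶ I) (h : IsIso (η ≫ η'))
    (l : (T.obj I).obj K ≅ K) (l' : (T'.obj I').obj (L.obj K) ≅ L.obj K) :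
    ∃ r : R.obj (L.obj K) ⟶ K, IsIso (adj.unit.app K ≫ r) := by
  have h1 := unit_eq adj M K l e l' hM
  rw [← hη] at h1
  refine ⟨R.map (alpha M K l e l' hM).hom ≫ R.map l'.inv ≫ inv ((theta adj M I').app K) ≫
    (T.map η').app K ≫ l.hom, ?_⟩
  rw [← reassoc_of% h1, ← R.map_comp_assoc l'.hom, Iso.hom_inv_id, R.map_id]
  have h2 : IsIso ((T.map (η ≫ η')).app K) := inferInstance
  rw [T.map_comp, NatTrans.comp_app] at h2
  have h3 : l.inv ≫ (T.map η).app K ≫ (theta adj M I').app K ≫ 𝟙 _ ≫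
      inv ((theta adj M I').app K) ≫ (T.map η').app K ≫ l.hom =
      l.inv ≫ ((T.map η).app K ≫ (T.map η').app K) ≫ l.hom := by
    simp
  erw [h3]
  infer_instance

/-- If `I ⟶ R I'` is an isomorphism, so is the unit `K ⟶ R L K`. -/
theorem isIso_unit (η : I ⟶ R.obj I') (hη : η = adj.unit.app I ≫ R.map e.hom)
    (hM : IsIso (Ma M I K)) (hθ : IsIso ((theta adj M I').app K)) (h : IsIso η)
    (l : (T.obj I).obj K ≅ K) (l' : (T'.obj I').obj (L.obj K) ≅ L.obj K) :
    IsIso (adj.unit.app K) := by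
  have h1 := unit_eq adj M K l e l' hM
  rw [← hη] at h1
  have h2 : IsIso (adj.unit.app K ≫ R.map (alpha M K l e l' hM).hom) := by
    rw [← h1]
    infer_instance
  exact IsIso.of_isIso_comp_right _ (R.map (alpha M K l e l' hM).hom)

/-- If the unit is bijective on maps to `Z`, so is tensoring with `I ⟶ R I'`. -/
theorem bijective_tens (sym : T.flip ≅ T) (η : I ⟶ R.obj I')
    (hη : η = adj.unit.app I ≫ R.map e.hom)
    (hM : IsIso (Ma M I K)) (hθ : IsIso ((theta adj M I').app K))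
    (l : (T.obj I).obj K ≅ K) (l' : (T'.obj I').obj (L.obj K) ≅ L.obj K) {Z : D}
    (h : Function.Bijective (fun b : R.obj (L.obj K) ⟶ Z => adj.unit.app K ≫ b)) :
    Function.Bijective (fun b : (T.obj K).obj (R.obj I') ⟶ Z => (T.obj K).map η ≫ b) := by
  have h1 := unit_eq adj M K l e l' hM
  rw [← hη] at h1
  let s : (T.obj K).obj (R.obj I') ≅ R.obj (L.obj K) :=
    (sym.app (R.obj I')).app K ≪≫ @asIso _ _ _ _ ((theta adj M I').app K) hθ ≪≫
      R.mapIso (l' ≪≫ (alpha M K l e l' hM).symm)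
  have hs : s.hom = (sym.hom.app (R.obj I')).app K ≫ (theta adj M I').app K ≫
      R.map (l'.hom ≫ (alpha M K l e l' hM).inv) := rfl
  let t : K ≅ (T.obj K).obj I := l.symm ≪≫ ((sym.app I).app K).symm
  have ht : t.hom = l.inv ≫ (sym.inv.app I).app K := rfl
  have h2 : (T.obj K).map η = t.inv ≫ adj.unit.app K ≫ s.inv := by
    have h3 : (T.obj K).map η ≫ (sym.hom.app (R.obj I')).app K =
        (sym.hom.app I).app K ≫ (T.map η).app K :=
      congr_app (sym.hom.naturality η) K
    have h4 : (sym.inv.app I).app K ≫ (sym.hom.app I).app K = 𝟙 _ := by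
      rw [← NatTrans.comp_app, ← NatTrans.comp_app, sym.inv_hom_id]
      rfl
    have h0 : (t.hom ≫ (T.obj K).map η) ≫ s.hom = adj.unit.app K := by
      rw [hs, ht, assoc, assoc, reassoc_of% h3, reassoc_of% h4, R.map_comp, reassoc_of% h1,
        ← R.map_comp, Iso.hom_inv_id, R.map_id, comp_id]
    rw [Iso.eq_inv_comp]
    exact (Iso.eq_comp_inv s).2 h0
  have h5 : (fun b : (T.obj K).obj (R.obj I') ⟶ Z => (T.obj K).map η ≫ b) =
      (fun c => t.inv ≫ c) ∘ (fun b => adj.unit.app K ≫ b) ∘ (fun b => s.inv ≫ b) := by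
    funext b
    simp only [Function.comp_apply, h2, assoc]
  rw [h5]
  exact (t.homFromEquiv (Z := Z)).bijective.comp (h.comp (s.homFromEquiv (Z := Z)).bijective)

end K870.ThetaAbs
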