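import Groth.Agent.Dual.H360.ProjAff
import Groth.Agent.Dual.H359.RHUniv
import Groth.Agent.RatSing.K870.ThetaAbs
import Groth.Prelude.Def_Dual3

/-!
# The unit `K ⟶ Rf_* Lf^* K` and the map `O_Y ⟶ Rf_* O_X`
-/

set_option autoImplicit false

universe u

open CategoryTheory Category Limits AlgebraicGeometry

attribute [local instance] HasDerivedCategory.standard

namespace K870.Eta

open DCoh Groth.Agent Groth.Agent.PerfC.DTens Groth.Agent.PerfC.LpullTens
  Groth.Agent.Ega1.ADualUniv Groth.Agent.Dcoh.DerPull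

variable {X Y : Scheme.{u}}

/-- `O` as an object of `D(O_Y)`. -/
noncomputable def unitTens {I : D Y} (e : I ≅ inD Y (Coh.structureModule Y)) (K : D Y) :
    ((LTX Y).obj I).obj K ≅ K :=
  ((LTX Y).mapIso (e ≪≫ ((DerivedCategory.singleFunctorIsoCompQ Y.Modules 0).app
    (Coh.structureModule Y)))).app K ≪≫ (Dual.H360.ProjAff.unitIsoL Y).app K

section

variable (f : X ⟶ Y) [HasRpush f] [HasLpull f]

/-- Any adjunction `Lf^* ⊣ Rf_*` on `D_QCoh` has the canonical unit up to isomorphism. -/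
theorem exists_unit_eq (hL : Dual3.LpullPreservesQCoh f) (h : RpushPreservesQCoh f)
    (adjL : Dual3.LpullQ f hL ⊣ RpushQ f h) (A : DQCoh Y) :
    ∃ e : (Lpull f).obj A.obj ≅ (Lpull f).obj A.obj,
      (adjL.unit.app A).hom = (lpullAdj f).unit.app A.obj ≫ (Rpush f).map e.hom := by
  let u : A.obj ⟶ (Rpush f).obj ((Lpull f).obj A.obj) := (adjL.unit.app A).hom
  let v : A.obj ⟶ (Rpush f).obj ((Lpull f).obj A.obj) := (lpullAdj f).unit.app A.obj
  -- `u = v ≫ R a`
  let a : (Lpull f).obj A.obj ⟶ (Lpull f).obj A.obj := ((lpullAdj f).homEquiv _ _).symm u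
  have ha : v ≫ (Rpush f).map a = u := by
    have := ((lpullAdj f).homEquiv A.obj ((Lpull f).obj A.obj)).apply_symm_apply u
    rw [Adjunction.homEquiv_unit] at this
    exact this
  have hinj : ∀ x y : (Lpull f).obj A.obj ⟶ (Lpull f).obj A.obj,
      v ≫ (Rpush f).map x = v ≫ (Rpush f).map y → x = y := by
    intro x y hxy
    apply ((lpullAdj f).homEquiv A.obj ((Lpull f).obj A.obj)).injective
    rw [Adjunction.homEquiv_unit, Adjunction.homEquiv_unit]
    exact hxy
  let LA : DQCoh X := (Dual3.LpullQ f hL).obj A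
  have hinj' : ∀ x y : (Lpull f).obj A.obj ⟶ (Lpull f).obj A.obj,
      u ≫ (Rpush f).map x = u ≫ (Rpush f).map y → x = y := by
    intro x y hxy
    have h1 : (ObjectProperty.homMk x : LA ⟶ LA) = ObjectProperty.homMk y := by
      apply (adjL.homEquiv A LA).injective
      rw [Adjunction.homEquiv_unit, Adjunction.homEquiv_unit]
      ext1
      exact hxy
    exact congrArg (fun t => t.hom) h1
  have hsurj' : ∃ b : (Lpull f).obj A.obj ⟶ (Lpull f).obj A.obj, u ≫ (Rpush f).map b = v := by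
    obtain ⟨b, hb⟩ := (adjL.homEquiv A LA).surjective (ObjectProperty.homMk v)
    rw [Adjunction.homEquiv_unit] at hb
    exact ⟨b.hom, congrArg (fun t => t.hom) hb⟩
  obtain ⟨b, hb⟩ := hsurj'
  refine ⟨⟨a, b, ?_, ?_⟩, ha.symm⟩
  · apply hinj
    rw [Functor.map_comp, reassoc_of% ha, hb, CategoryTheory.Functor.map_id, comp_id]
  · apply hinj'
    rw [Functor.map_comp, reassoc_of% hb, ha, CategoryTheory.Functor.map_id, comp_id]

theorem exists_eta_eq (hL : Dual3.LpullPreservesQCoh f) (h : RpushPreservesQCoh f)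
    (adjL : Dual3.LpullQ f hL ⊣ RpushQ f h) (A : DQCoh Y) (B : DQCoh X)
    (e : (Dual3.LpullQ f hL).obj A ≅ B) :
    ∃ e' : (Lpull f).obj A.obj ≅ B.obj,
      (adjL.unit.app A ≫ (RpushQ f h).map e.hom).hom =
        (lpullAdj f).unit.app A.obj ≫ (Rpush f).map e'.hom := by
  obtain ⟨a, ha⟩ := exists_unit_eq f hL h adjL A
  refine ⟨a ≪≫ (ObjectProperty.ι _).mapIso e, ?_⟩
  change (adjL.unit.app A).hom ≫ (Rpush f).map e.hom.hom = _
  rw [ha, assoc, ← Functor.map_comp]
  rfl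

variable [QuasiCompact f] [QuasiSeparated f]

/-- If `O_Y ⟶ Rf_* O_X` splits, so does `K ⟶ Rf_* Lf^* K`. -/
theorem exists_retraction {I : D Y} (eI : I ≅ inD Y (Coh.structureModule Y))
    {I' : D X} (eI' : I' ≅ inD X (Coh.structureModule X)) (hI' : IsQCohD I')
    (e : (Lpull f).obj I ≅ I') (η : I ⟶ (Rpush f).obj I')
    (hη : η = (lpullAdj f).unit.app I ≫ (Rpush f).map e.hom)
    (η' : (Rpush f).obj I' ⟶ I) (hi : IsIso (η ≫ η')) (K : D Y) (hK : IsQCohD K) :
    ∃ r : (Rpush f).obj ((Lpull f).obj K) ⟶ K, IsIso ((lpullAdj f).unit.app K ≫ r) :=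
  ThetaAbs.exists_retraction (lpullAdj f) (lpullTens f).hom K e η hη
    (inferInstanceAs (IsIso (((lpullTens f).hom.app I).app K)))
    (S1118.isIso_theta_app f I' hI' K hK) η' hi (unitTens eI K) (unitTens eI' ((Lpull f).obj K))

/-- If `O_Y ⟶ Rf_* O_X` is an isomorphism, so is `K ⟶ Rf_* Lf^* K`. -/
theorem isIso_unit {I : D Y} (eI : I ≅ inD Y (Coh.structureModule Y))
    {I' : D X} (eI' : I' ≅ inD X (Coh.structureModule X)) (hI' : IsQCohD I')
    (e : (Lpull f).obj I ≅ I') (η : I ⟶ (Rpush f).obj I')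
    (hη : η = (lpullAdj f).unit.app I ≫ (Rpush f).map e.hom) (hi : IsIso η)
    (K : D Y) (hK : IsQCohD K) :
    IsIso ((lpullAdj f).unit.app K) :=
  ThetaAbs.isIso_unit (lpullAdj f) (lpullTens f).hom K e η hη
    (inferInstanceAs (IsIso (((lpullTens f).hom.app I).app K)))
    (S1118.isIso_theta_app f I' hI' K hK) hi (unitTens eI K) (unitTens eI' ((Lpull f).obj K))

omit [QuasiCompact f] [QuasiSeparated f] in
/-- If the unit `K ⟶ Rf_* Lf^* K` splits, then the trace of a universal pair `(K, L)` is a split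
epimorphism. -/
theorem exists_section_trace {K : D Y} (hK : IsQCohD K) {L : D X} {τ : (Rpush f).obj L ⟶ K}
    (hu : IsUniv f K L τ) (r : (Rpush f).obj ((Lpull f).obj K) ⟶ K)
    (hr : IsIso ((lpullAdj f).unit.app K ≫ r)) :
    ∃ s : K ⟶ (Rpush f).obj L, s ≫ τ = 𝟙 K := by
  obtain ⟨ρ, hρ⟩ := hu.exists_lift (S1054.result f K hK) r
  refine ⟨inv ((lpullAdj f).unit.app K ≫ r) ≫ (lpullAdj f).unit.app K ≫ (Rpush f).map ρ, ?_⟩
  rw [assoc, assoc, hρ]
  exact IsIso.inv_hom_id ((lpullAdj f).unit.app K ≫ r)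

end

end K870.Eta
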