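import Groth.Agent.RatSing.K870.EtaIff
import Groth.Agent.LoccohB.LTXInst
import Groth.Agent.LoccohB.BiGlobal
import Groth.Agent.S1001
import Groth.Agent.Ega3B.Devissage

/-!
# The trace is an isomorphism iff `O_Y ⟶ Rf_* O_X` is, for `K` dualizing
-/

set_option autoImplicit false

universe v u

open CategoryTheory Category Limits AlgebraicGeometry Pretriangulated

namespace K870.EtaDual

section Abs

open Groth.Agent.LoccohB.BiFormal

variable {C : Type u} [Category.{v} C] [HasZeroObject C] [HasShift C ℤ] [Preadditive C]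
  [∀ n : ℤ, (shiftFunctor C n).Additive] [Pretriangulated C] {T : C ⥤ C ⥤ C}

/-- If tensoring with `η` is bijective on maps to `K`, the dual of the cone of `η` is zero. -/
theorem isZero_dual_cone (hT : ∀ F : C, ∃ (_ : (T.obj F).CommShift ℤ), (T.obj F).IsTriangulated)
    (hs : ∀ F : C, Nonempty (T.obj (F⟦(1 : ℤ)⟧) ≅ T.obj F ⋙ shiftFunctor C (1 : ℤ)))
    (P : C → Prop) (hP : ∀ F, P F → P (F⟦(1 : ℤ)⟧))
    {K L M' : C} (η : L ⟶ M')
    (key : ∀ F : C, P F →
      Function.Bijective (fun b : (T.obj F).obj M' ⟶ K => (T.obj F).map η ≫ b))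
    {Z : C} (g : M' ⟶ Z) (δ : Z ⟶ L⟦(1 : ℤ)⟧) (hΔ : Triangle.mk η g δ ∈ distTriang C)
    {N : C} (hN' : P N) {evN : (T.obj N).obj Z ⟶ K} (hN : IsDual T evN) : IsZero N := by
  have zero : ∀ (F : C), P F → ∀ (x : (T.obj F).obj Z ⟶ K), x = 0 := by
    intro F hF x
    obtain ⟨_, _⟩ := hT F
    have e0 : (T.obj F).map g ≫ x = 0 := by
      apply (key F hF).injective
      dsimp only
      have hz : η ≫ g = 0 := comp_distTriang_mor_zero₁₂ _ hΔ
      rw [← Functor.map_comp_assoc, hz, Functor.map_zero, zero_comp, comp_zero]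
    obtain ⟨z, hz⟩ : ∃ z : (T.obj F).obj (L⟦(1 : ℤ)⟧) ⟶ K, x = (T.obj F).map δ ≫ z := by
      obtain ⟨z, hz⟩ := Triangle.yoneda_exact₂ _
        ((T.obj F).map_distinguished _ (rot_of_distTriang _ hΔ)) x e0
      exact ⟨z, hz⟩
    obtain ⟨α⟩ := hs F
    obtain ⟨w, hw⟩ := (key (F⟦(1 : ℤ)⟧) (hP F hF)).surjective
      (α.hom.app L ≫ ((T.obj F).commShiftIso (1 : ℤ)).inv.app L ≫ z)
    dsimp only at hw
    have hz' : z = (T.obj F).map (η⟦(1 : ℤ)⟧') ≫ ((T.obj F).commShiftIso (1 : ℤ)).hom.app M' ≫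
        α.inv.app M' ≫ w := by
      have n1 : (T.obj F).map (η⟦(1 : ℤ)⟧') ≫ ((T.obj F).commShiftIso (1 : ℤ)).hom.app M' =
          ((T.obj F).commShiftIso (1 : ℤ)).hom.app L ≫ ((T.obj F).map η)⟦(1 : ℤ)⟧' :=
        ((T.obj F).commShiftIso (1 : ℤ)).hom.naturality η
      have n2 : ((T.obj F).map η)⟦(1 : ℤ)⟧' ≫ α.inv.app M' =
          α.inv.app L ≫ (T.obj (F⟦(1 : ℤ)⟧)).map η := α.inv.naturality η
      rw [reassoc_of% n1, reassoc_of% n2, hw]
      simp
    have hδ : δ ≫ η⟦(1 : ℤ)⟧' = 0 := comp_distTriang_mor_zero₃₁ _ hΔ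
    rw [hz, hz', ← Functor.map_comp_assoc, hδ, Functor.map_zero, zero_comp]
  rw [IsZero.iff_id_eq_zero]
  exact hN.hom_ext ((zero N hN' _).trans (zero N hN' _).symm)

end Abs

attribute [local instance] HasDerivedCategory.standard

open DCoh Groth.Agent Groth.Agent.PerfC.DTens Groth.Agent.PerfC.RHomD Groth.Agent.LoccohB.LTXInst
  Groth.Agent.Ega1.ADualUniv

variable {X Y : Scheme.{u}} [IsLocallyNoetherian Y]
  [∀ (U : Scheme.{u}) (j : U ⟶ Y) [IsOpenImmersion j],
    PreservesFiniteLimits (Scheme.Modules.restrictFunctor j)]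
  [∀ (R : CommRingCat.{u}), PreservesFiniteLimits (tilde.functor R)]

/-- A morphism of coherent complexes is an isomorphism if tensoring with it is bijective on maps to
a dualizing complex. -/
theorem isIso_of_bijective {K : D Y} (hK : Dual2.IsDualizingSch Y K) {A B : D Y} (hA : IsCohD A)
    (hB : IsCohD B) (η : A ⟶ B) (key : ∀ F : D Y, IsQCohD F →
      Function.Bijective (fun b : ((LTX Y).obj F).obj B ⟶ K => ((LTX Y).obj F).map η ≫ b)) :
    IsIso η := by
  obtain ⟨Z, g, δ, hΔ⟩ := distinguished_cocone_triangle η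
  have hZ : IsCohD Z := PerfA.QCohD.isCohD_ext₃ _ hΔ hA hB
  have h1 := LoccohB.BiGlobal.isCohD_RH hK hZ
  have h2 : IsZero ((RH Z).obj K) := isZero_dual_cone (T := LTX Y) (fun F => isTriang_LTX_obj F)
    (fun F => nonempty_shift F 1) IsQCohD (fun F hF => PerfA.QCohD.isQCohD_shift hF 1) η key g δ hΔ
    (PerfA.QCohD.isQCohD_of_isCohD h1) (isDual Z K)
  have h3 : IsZero Z := LoccohB.BiGlobal.isZero_of_isZero_RH hK hZ h2
  exact (Triangle.isZero₃_iff_isIso₁ _ hΔ).1 h3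

end K870.EtaDual
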