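import Groth.Agent.LoccohB.DCalc
import Mathlib.Algebra.Homology.DerivedCategory.FullyFaithful
import Mathlib.Algebra.Homology.DerivedCategory.TStructure

/-!
# Degree zero of the unit of a derived adjunction
-/

set_option autoImplicit false

universe w v u

open CategoryTheory Category Limits DerivedCategory

namespace K870.EtaZero

variable {A : Type u} [Category.{v} A] [Abelian A] [HasDerivedCategory.{w} A]
  {B : Type u} [Category.{v} B] [Abelian B] [HasDerivedCategory.{w} B]
  {P : B ⥤ A} {Q : A ⥤ B} (adj : P ⊣ Q)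
  {L : DerivedCategory B ⥤ DerivedCategory A} {R : DerivedCategory A ⥤ DerivedCategory B}
  (Adj : L ⊣ R)
  (c : singleFunctor A 0 ⋙ R ⋙ homologyFunctor B 0 ≅ Q)
  (hGE : ∀ N : A, (R.obj ((singleFunctor A 0).obj N)).IsGE 0)
  (M : B) (N : A) (e : L.obj ((singleFunctor B 0).obj M) ≅ (singleFunctor A 0).obj N)

/-- `M ⟶ H⁰(R N) ≅ Q N`. -/
noncomputable def zeroHom (η : (singleFunctor B 0).obj M ⟶ R.obj ((singleFunctor A 0).obj N)) :
    M ⟶ Q.obj N :=
  (singleFunctorCompHomologyFunctorIso B 0).inv.app M ≫ (homologyFunctor B 0).map η ≫ c.hom.app N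

variable (η : (singleFunctor B 0).obj M ⟶ R.obj ((singleFunctor A 0).obj N))
  (hη : η = Adj.unit.app _ ≫ R.map e.hom)

include Adj hGE hη in
/-- The transposition is bijective. -/
theorem bijective_comp (N' : A) :
    Function.Bijective (fun g : N ⟶ N' => zeroHom c M N η ≫ Q.map g) := by
  have h1 : Function.Bijective (fun g : N ⟶ N' => (singleFunctor A 0).map g) :=
    ⟨(singleFunctor A 0).map_injective, (singleFunctor A 0).map_surjective⟩
  have h2 : Function.Bijective (fun g : (singleFunctor A 0).obj N ⟶ (singleFunctor A 0).obj N' =>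
      e.hom ≫ g) := ((e.symm.homFromEquiv (Z := (singleFunctor A 0).obj N'))).bijective
  have h3 := (Adj.homEquiv ((singleFunctor B 0).obj M) ((singleFunctor A 0).obj N')).bijective
  have h4 : (R.obj ((singleFunctor A 0).obj N')).IsGE 0 := hGE N'
  have h5 := (Groth.Agent.LoccohB.DCalc.homEquiv 0 ((singleFunctor B 0).obj M)
    (R.obj ((singleFunctor A 0).obj N'))).bijective
  have h6 : Function.Bijective (fun g : (homologyFunctor B 0).obj ((singleFunctor B 0).obj M) ⟶
      (homologyFunctor B 0).obj (R.obj ((singleFunctor A 0).obj N')) =>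
      ((singleFunctorCompHomologyFunctorIso B 0).inv.app M ≫ g ≫ c.hom.app N' :
        M ⟶ Q.obj N')) := by
    constructor
    · intro g g' hgg
      have := (cancel_epi _).1 hgg
      exact (cancel_mono _).1 this
    · intro g
      refine ⟨(singleFunctorCompHomologyFunctorIso B 0).hom.app M ≫ g ≫ c.inv.app N', ?_⟩
      simp
  refine Eq.mp (congrArg Function.Bijective ?_) (h6.comp (h5.comp (h3.comp (h2.comp h1))))
  symm
  funext g
  have h7 := c.hom.naturality g
  simp only [Functor.comp_map] at h7
  simp only [Function.comp_apply, Adjunction.homEquiv_unit, zeroHom]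
  change _ = (singleFunctorCompHomologyFunctorIso B 0).inv.app M ≫
    (homologyFunctor B 0).map (Adj.unit.app ((singleFunctor B 0).obj M) ≫
      R.map (e.hom ≫ (singleFunctor A 0).map g)) ≫ c.hom.app N'
  rw [assoc, assoc, ← h7, R.map_comp, ← assoc (Adj.unit.app _), ← hη, Functor.map_comp, assoc]

include Adj hGE hη in
/-- In degree zero the derived unit is the underived unit, up to an isomorphism. -/
theorem exists_iso : ∃ a : P.obj M ≅ N, zeroHom c M N η = adj.unit.app M ≫ Q.map a.hom := by
  let u := zeroHom c M N η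
  have hinj : ∀ (Z : A) (x y : N ⟶ Z), u ≫ Q.map x = u ≫ Q.map y → x = y := fun Z x y h =>
    (bijective_comp Adj c hGE M N e η hη Z).1 h
  have hinj' : ∀ (Z : A) (x y : P.obj M ⟶ Z),
      adj.unit.app M ≫ Q.map x = adj.unit.app M ≫ Q.map y → x = y := by
    intro Z x y h
    apply (adj.homEquiv M Z).injective
    rw [Adjunction.homEquiv_unit, Adjunction.homEquiv_unit]
    exact h
  obtain ⟨b, hb⟩ : ∃ b : P.obj M ⟶ N, adj.unit.app M ≫ Q.map b = u :=
    ⟨(adj.homEquiv M N).symm u, by
      have := (adj.homEquiv M N).apply_symm_apply u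
      rwa [Adjunction.homEquiv_unit] at this⟩
  obtain ⟨g, hg⟩ := (bijective_comp Adj c hGE M N e η hη (P.obj M)).2 (adj.unit.app M)
  change u ≫ Q.map g = adj.unit.app M at hg
  refine ⟨⟨b, g, ?_, ?_⟩, hb.symm⟩
  · apply hinj'
    rw [Q.map_comp, reassoc_of% hb, hg, Q.map_id]
    exact (comp_id _).symm
  · apply hinj
    rw [Q.map_comp, reassoc_of% hg, hb, Q.map_id]
    exact (comp_id _).symm

end K870.EtaZero
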