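import Groth.Agent.RatSing.K870.Eta
import Groth.Agent.RatSing.K870.EtaZero
import Groth.Agent.PerfC.RpushSingle
import Groth.Agent.Fga.UnitRestrict
import Groth.Agent.LoccohB.BiGlobal
import Groth.Agent.S0998
import Groth.Prelude.Def_ClSub2

/-!
# `O_Y ⟶ Rf_* O_X` is an isomorphism iff `O_Y ⟶ f_* O_X` is and the higher direct images vanish
-/

set_option autoImplicit false

universe u

open CategoryTheory Category Limits AlgebraicGeometry

attribute [local instance] HasDerivedCategory.standard

namespace K870.EtaIff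

open DCoh Groth.Agent Groth.Agent.PerfC.DTens Groth.Agent.PerfC.LpullTens
  Groth.Agent.Ega1.ADualUniv Groth.Agent.Dcoh.DerPull

variable {X Y : Scheme.{u}} (f : X ⟶ Y) [HasRpush f] [HasLpull f]

/-- `Lf^* O_Y ≅ O_X`. -/
noncomputable def lpullO : (Lpull f).obj (inD Y (Coh.structureModule Y)) ≅
    inD X (Coh.structureModule X) :=
  (Lpull f).mapIso ((DerivedCategory.singleFunctorIsoCompQ Y.Modules 0).app
    (Coh.structureModule Y)) ≪≫ lpullUnit f ≪≫
  ((DerivedCategory.singleFunctorIsoCompQ X.Modules 0).app (Coh.structureModule X)).symm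

/-- `O_Y ⟶ Rf_* O_X`. -/
noncomputable def eta : inD Y (Coh.structureModule Y) ⟶
    (Rpush f).obj (inD X (Coh.structureModule X)) :=
  (lpullAdj f).unit.app _ ≫ (Rpush f).map (lpullO f).hom

theorem isIso_homology_zero_iff [HasInjectiveResolutions X.Modules] :
    IsIso ((DerivedCategory.homologyFunctor Y.Modules 0).map (eta f)) ↔
      IsIso (ClSub.unitToPush f) := by
  let c : DerivedCategory.singleFunctor X.Modules 0 ⋙ Rpush f ⋙
      DerivedCategory.homologyFunctor Y.Modules 0 ≅ Scheme.Modules.pushforward f :=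
    PerfC.RpushSingle.natIso f 0 ≪≫ (Scheme.Modules.pushforward f).rightDerivedZeroIsoSelf
  obtain ⟨a, ha⟩ := EtaZero.exists_iso (Scheme.Modules.pullbackPushforwardAdjunction f)
    (lpullAdj f) c (fun N => PerfC.RpushTrunc.isGE_Rpush f (inD X N) 0)
    (Coh.structureModule Y) (Coh.structureModule X) (lpullO f) (eta f) rfl
  have h1 : ClSub.unitToPush f = EtaZero.zeroHom c _ _ (eta f) ≫
      (Scheme.Modules.pushforward f).map (a.inv ≫ Fga.UnitRestrict.pullbackUnitHom f) := by
    have h2 := Fga.UnitRestrict.unit_pullbackUnitHom f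
    rw [ha, assoc, ← Functor.map_comp, Iso.hom_inv_id_assoc]
    exact h2.symm
  have h3 : IsIso (ClSub.unitToPush f) ↔ IsIso (EtaZero.zeroHom c _ _ (eta f)) := by
    rw [h1]
    constructor
    · intro h
      exact IsIso.of_isIso_comp_right _ ((Scheme.Modules.pushforward f).map
        (a.inv ≫ Fga.UnitRestrict.pullbackUnitHom f))
    · intro h
      infer_instance
  rw [h3]
  unfold EtaZero.zeroHom
  constructor
  · intro h
    infer_instance
  · intro h
    have h4 : IsIso ((DerivedCategory.homologyFunctor Y.Modules 0).map (eta f) ≫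
        c.hom.app (Coh.structureModule X)) :=
      IsIso.of_isIso_comp_left
        ((DerivedCategory.singleFunctorCompHomologyFunctorIso Y.Modules 0).inv.app
          (Coh.structureModule Y)) _
    exact IsIso.of_isIso_comp_right _ (c.hom.app (Coh.structureModule X))

/-- `O_Y ⟶ Rf_* O_X` is an isomorphism iff `O_Y ⟶ f_* O_X` is one and `R^p f_* O_X = 0` for
`p > 0`. -/
theorem isIso_eta_iff [HasInjectiveResolutions X.Modules] :
    IsIso (eta f) ↔ (IsIso (ClSub.unitToPush f) ∧
      ∀ p : ℕ, 0 < p → IsZero ((Coh.Rpush f p).obj (Coh.structureModule X))) := by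
  have hO : ∀ i : ℤ, i ≠ 0 → IsZero (HD (inD Y (Coh.structureModule Y)) i) := fun i hi => by
    rcases lt_or_gt_of_ne hi with h | h
    · exact DerivedCategory.isZero_of_isGE _ 0 i h
    · exact DerivedCategory.isZero_of_isLE _ 0 i h
  constructor
  · intro h
    refine ⟨(isIso_homology_zero_iff f).1 inferInstance, fun p hp => ?_⟩
    exact (((hO p (by omega)).of_iso
      (asIso ((DerivedCategory.homologyFunctor Y.Modules (p : ℤ)).map (eta f))).symm)).of_iso
      (PerfC.RpushSingle.iso f p (Coh.structureModule X)).symm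
  · rintro ⟨h0, hp⟩
    rw [DerivedCategory.isIso_iff]
    intro i
    rcases lt_trichotomy i 0 with h | h | h
    · exact Limits.IsZero.isIso (hO i h.ne) (PerfC.RpushSingle.isZero_of_neg f _ i h) _
    · subst h
      exact (isIso_homology_zero_iff f).2 h0
    · obtain ⟨p, rfl⟩ := Int.eq_ofNat_of_zero_le h.le
      exact Limits.IsZero.isIso (hO _ h.ne') ((hp p (by simpa using h)).of_iso
        (PerfC.RpushSingle.iso f p (Coh.structureModule X))) _

/-! ### The trace -/

section Trace

variable [QuasiCompact f] [QuasiSeparated f]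

/-- Precomposition with the unit, for a universal pair. -/
theorem bijective_unit_iff {K : D Y} (hKq : IsQCohD K) {L : D X} {τ : (Rpush f).obj L ⟶ K}
    (hu : IsUniv f K L τ) :
    (∀ N : D Y, IsQCohD N → Function.Bijective
      (fun b : (Rpush f).obj ((Lpull f).obj N) ⟶ K => (lpullAdj f).unit.app N ≫ b)) ↔ IsIso τ := by
  have hLq : IsQCohD ((Rpush f).obj L) := S0998.result f L hu.qcoh
  have key : ∀ N : D Y, IsQCohD N →
      ((fun b : (Rpush f).obj ((Lpull f).obj N) ⟶ K => (lpullAdj f).unit.app N ≫ b) ∘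
        (fun g : (Lpull f).obj N ⟶ L => (Rpush f).map g ≫ τ)) =
      (fun g : N ⟶ (Rpush f).obj L => g ≫ τ) ∘ ((lpullAdj f).homEquiv N L) := by
    intro N hN
    funext g
    simp only [Function.comp_apply, Adjunction.homEquiv_unit, assoc]
  constructor
  · intro h
    have h1 : ∀ N : D Y, IsQCohD N →
        Function.Bijective (fun g : N ⟶ (Rpush f).obj L => g ≫ τ) := by
      intro N hN
      have h2 := (h N hN).comp (hu.bij ((Lpull f).obj N) (S1054.result f N hN))
      rw [key N hN] at h2
      exact (Function.Bijective.of_comp_iff _ ((lpullAdj f).homEquiv N L).bijective).1 h2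
    obtain ⟨s, hs⟩ := (h1 K hKq).2 (𝟙 K)
    refine ⟨s, ?_, hs⟩
    apply (h1 _ hLq).1
    dsimp only at hs ⊢
    rw [assoc, hs, comp_id, id_comp]
  · intro h N hN
    have h1 : Function.Bijective (fun g : N ⟶ (Rpush f).obj L => g ≫ τ) :=
      ((asIso τ).homToEquiv (Z := N)).bijective
    have h2 := h1.comp ((lpullAdj f).homEquiv N L).bijective
    rw [← key N hN] at h2
    exact (Function.Bijective.of_comp_iff _ (hu.bij ((Lpull f).obj N) (S1054.result f N hN))).1 h2

/-- If `O_Y ⟶ Rf_* O_X` is an isomorphism then so is the trace. -/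
theorem isIso_trace (h : IsIso (eta f)) {K : D Y} (hKq : IsQCohD K) {L : D X}
    {τ : (Rpush f).obj L ⟶ K} (hu : IsUniv f K L τ) : IsIso τ := by
  rw [← bijective_unit_iff f hKq hu]
  intro N hN
  have h1 : IsIso ((lpullAdj f).unit.app N) :=
    Eta.isIso_unit f (Iso.refl _) (Iso.refl _)
      (PerfA.QCohD.isQCohD_inD _ (Fdesc.StructMod.isQCoh_structureModule X)) (lpullO f) (eta f) rfl
      h N hN
  exact ((asIso ((lpullAdj f).unit.app N)).symm.homFromEquiv (Z := K)).bijective

/-- If the unit is bijective on maps to `K`, then so is tensoring with `O_Y ⟶ Rf_* O_X`. -/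
theorem bijective_tens (N : D Y) (hN : IsQCohD N) {K : D Y}
    (h : Function.Bijective
      (fun b : (Rpush f).obj ((Lpull f).obj N) ⟶ K => (lpullAdj f).unit.app N ≫ b)) :
    Function.Bijective (fun b : ((LTX Y).obj N).obj ((Rpush f).obj (inD X (Coh.structureModule X)))
      ⟶ K => ((LTX Y).obj N).map (eta f) ≫ b) := by
  have hq : IsQCohD (inD X (Coh.structureModule X)) :=
    PerfA.QCohD.isQCohD_inD _ (Fdesc.StructMod.isQCoh_structureModule X)
  exact ThetaAbs.bijective_tens (lpullAdj f) (lpullTens f).hom N (lpullO f) (symmIso Y) (eta f) rfl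
    (inferInstanceAs (IsIso (((lpullTens f).hom.app (inD Y (Coh.structureModule Y))).app N)))
    (S1118.isIso_theta_app f _ hq N hN) (Eta.unitTens (Iso.refl _) N)
    (Eta.unitTens (Iso.refl _) ((Lpull f).obj N)) h

end Trace

end K870.EtaIff
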