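import Groth.Agent.RatSing.K870.CohD

/-!
# Blow-up of a regular sequence: cohomology over affine opens
-/

set_option autoImplicit false

universe u

namespace K870.AffD

open CategoryTheory Limits Opposite AlgebraicGeometry BlowUp Groth.Agent.Divis Groth.Agent.Divis.BlowChart
  Groth.Agent.Divis.BlowChart2 Groth.Agent.Krr.H470.ChartInf Groth.Agent.Krr.H470.CechAlg
  K870.SecD K870.CohD

variable {X X' : Scheme.{u}} (b : X' ⟶ X) (J : X.IdealSheafData) (U : X.affineOpens)

/-- A nonzerodivisor on `U` is a nonzerodivisor on the chart of a nonzerodivisor. -/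
theorem pb_chart_mem_nonZeroDivisors (hb : IsBlowUp b J) {a : Γ(X, U.1)} (ha : a ∈ J.ideal U)
    {c : Γ(X, U.1)} (hc : c ∈ nonZeroDivisors Γ(X, U.1)) :
    pb b U (chart b J U a) (chart_le b J U a) c ∈ nonZeroDivisors Γ(X', chart b J U a) := by
  obtain ⟨θ, hθ⟩ := exists_ringEquiv_chart b J U hb ha
  have h1 : algebraMap Γ(X, U.1) (affineAlgebra Γ(X, U.1) (J.ideal U) a) c ∈
      nonZeroDivisors (affineAlgebra Γ(X, U.1) (J.ideal U) a) := by
    rw [mem_nonZeroDivisors_iff_right]
    intro y hy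
    have h2 : algebraMap Γ(X, U.1) (Localization.Away a) c ∈
        nonZeroDivisors (Localization.Away a) :=
      IsLocalization.map_nonZeroDivisors_le (Submonoid.powers a) (Localization.Away a) ⟨c, hc, rfl⟩
    have h3 : (y : Localization.Away a) * algebraMap Γ(X, U.1) (Localization.Away a) c = 0 :=
      congrArg Subtype.val hy
    exact Subtype.ext (mem_nonZeroDivisors_iff_right.1 h2 _ h3)
  rw [mem_nonZeroDivisors_iff_right]
  intro y hy
  rw [← hθ] at hy
  have h2 : θ.symm y * algebraMap _ _ c = 0 := by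
    apply θ.injective
    rw [map_mul, θ.apply_symm_apply, hy, map_zero]
  have h3 := mem_nonZeroDivisors_iff_right.1 h1 _ h2
  rw [← θ.apply_symm_apply y, h3, map_zero]

/-- `Γ(X, U) → Γ(X', chart a)` is injective. -/
theorem pb_chart_injective (hb : IsBlowUp b J) {a : Γ(X, U.1)} (ha : a ∈ J.ideal U)
    (ha0 : a ∈ nonZeroDivisors Γ(X, U.1)) :
    Function.Injective (pb b U (chart b J U a) (chart_le b J U a)) := by
  obtain ⟨θ, hθ⟩ := exists_ringEquiv_chart b J U hb ha
  rw [injective_iff_map_eq_zero]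
  intro x hx
  have h1 : θ (algebraMap _ _ x) = 0 := by rw [hθ]; exact hx
  rw [map_eq_zero_iff θ θ.injective] at h1
  have h2 : algebraMap Γ(X, U.1) (Localization.Away a) x = 0 := congrArg Subtype.val h1
  obtain ⟨⟨_, m, rfl⟩, h3⟩ :=
    (IsLocalization.map_eq_zero_iff (Submonoid.powers a) (Localization.Away a) x).1 h2
  exact mem_nonZeroDivisors_iff_right.1 (pow_mem ha0 m) x (by rw [mul_comm]; exact h3)

variable {n : ℕ} (a : Fin n → Γ(X, U.1))

/-- The open where all generators are invertible. -/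
noncomputable def dopen : X'.Opens := X'.basicOpen ((b.app U.1).hom (∏ k, a k))

theorem dopen_le : dopen b U a ≤ b ⁻¹ᵁ U.1 := X'.basicOpen_le _

theorem isUnit_al (k : Fin n) : IsUnit (al b U (dopen b U a) (dopen_le b U a) (a k)) := by
  have h1 : IsUnit (al b U (dopen b U a) (dopen_le b U a) (∏ k, a k)) :=
    RingedSpace.isUnit_res_basicOpen _ _
  rw [map_prod, IsUnit.prod_univ_iff] at h1
  exact h1 k

theorem dopen_le_chart (ha : J.ideal U = Ideal.span (Set.range a)) (k : Fin n) :
    dopen b U a ≤ chart b J U (a k) := by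
  intro x hx
  obtain ⟨W, hW, hxW, hWD⟩ := exists_isAffineOpen_mem_and_subset hx
  have e : W ≤ b ⁻¹ᵁ U.1 := fun y hy => dopen_le b U a (hWD hy)
  have hWD' : W ≤ dopen b U a := hWD
  have hun : IsUnit (pb b U W e (a k)) := by
    have h1 := (isUnit_al b U a k).map (X'.presheaf.map (homOfLE hWD').op).hom
    rw [← gm_pb b U (dopen b U a) (dopen_le b U a) (dopen b U a) (dopen_le b U a) le_rfl] at h1
    have h2 : (X'.presheaf.map (homOfLE hWD').op).hom
        (gm (dopen b U a) (dopen b U a) le_rfl (pb b U (dopen b U a) (dopen_le b U a) (a k))) =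
        pb b U W e (a k) := by
      rw [← map_pb b U hWD' (dopen_le b U a) (a k)]
      congr 1
      have h3 : (homOfLE (le_refl (dopen b U a))).op = 𝟙 _ := rfl
      rw [gm, h3, X'.presheaf.map_id]
      rfl
    rwa [h2] at h1
  refine le_chart b J U (a k) ⟨W, hW⟩ e ?_ hxW
  change _ = Ideal.span {pb b U W e (a k)}
  rw [Ideal.span_singleton_eq_top.2 hun]
  apply Ideal.eq_top_of_isUnit_mem _ _ hun
  rw [IdealComap.ideal_comap J b U ⟨W, hW⟩ e]
  exact Ideal.mem_map_of_mem _ (mem_ideal J U a ha k)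

/-- Sections are determined on `dopen`. -/
theorem gm_injective (hb : IsBlowUp b J) (ha : J.ideal U = Ideal.span (Set.range a))
    (ha0 : ∀ k, a k ∈ nonZeroDivisors Γ(X, U.1)) (W : X'.Opens) (h : dopen b U a ≤ W)
    (hW : W ≤ b ⁻¹ᵁ U.1) : Function.Injective (gm (dopen b U a) W h) := by
  rw [injective_iff_map_eq_zero]
  intro s hs
  have hprod : ∏ k, a k ∈ nonZeroDivisors Γ(X, U.1) := prod_mem fun k _ => ha0 k
  apply TopCat.Presheaf.section_ext X'.sheaf W
  intro x hx
  change X'.presheaf.germ W x hx s = X'.presheaf.germ W x hx 0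
  rw [map_zero]
  -- a chart
  have hx' := hW hx
  rw [← iSup_chart_eq b J U hb.1 a ha, TopologicalSpace.Opens.mem_iSup] at hx'
  obtain ⟨k, hk⟩ := hx'
  have hch := isAffineOpen_chart b J U hb (mem_ideal J U a ha k)
  have hnz := pb_chart_mem_nonZeroDivisors b J U hb (mem_ideal J U a ha k) hprod
  have hnz' := germ_mem_nonZeroDivisors hch hnz x hk
  obtain ⟨T, hT, hxT, hTle⟩ := exists_isAffineOpen_mem_and_subset
    (U := W ⊓ chart b J U (a k)) (x := x) ⟨hx, hk⟩
  have hTW : T ≤ W := fun y hy => (hTle hy).1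
  have hTc : T ≤ chart b J U (a k) := fun y hy => (hTle hy).2
  let c : Γ(X', T) := (X'.presheaf.map (homOfLE hTc).op).hom (pb b U _ (chart_le b J U (a k)) (∏ k, a k))
  have hc : c = pb b U T (hTc.trans (chart_le b J U (a k))) (∏ k, a k) := map_pb b U hTc _ _
  let s' : Γ(X', T) := (X'.presheaf.map (homOfLE hTW).op).hom s
  have hD : X'.basicOpen c ≤ dopen b U a := by
    have h1 : c = (X'.presheaf.map (homOfLE (hTW.trans hW)).op).hom
        ((b.app U.1).hom (∏ k, a k)) := by
      rw [hc]
      rfl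
    rw [h1]
    refine (le_of_eq (X'.basicOpen_res _ (homOfLE (hTW.trans hW)).op)).trans ?_
    exact inf_le_right
  have h1 : (X'.presheaf.map (homOfLE (X'.basicOpen_le c)).op).hom s' = 0 := by
    have h2 := congrArg (X'.presheaf.map (homOfLE hD).op).hom hs
    rw [map_zero] at h2
    rw [← h2]
    exact (gm_res (X'.basicOpen c) hTW (X'.basicOpen_le c) s).trans
      (gm_res (X'.basicOpen c) h hD s).symm
  have hloc := hT.isLocalization_basicOpen c
  obtain ⟨⟨_, m, rfl⟩, h3⟩ :=
    (IsLocalization.map_eq_zero_iff (Submonoid.powers c) Γ(X', X'.basicOpen c) s').1 h1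
  have h4 := congrArg (X'.presheaf.germ T x hxT) h3
  rw [map_mul, map_zero, map_pow] at h4
  have h5 : X'.presheaf.germ T x hxT s' = X'.presheaf.germ W x hx s :=
    TopCat.Presheaf.germ_res_apply X'.presheaf (homOfLE hTW) x hxT s
  have h6 : X'.presheaf.germ T x hxT c = X'.presheaf.germ (chart b J U (a k)) x hk
      (pb b U _ (chart_le b J U (a k)) (∏ k, a k)) :=
    TopCat.Presheaf.germ_res_apply X'.presheaf (homOfLE hTc) x hxT _
  rw [h5, h6] at h4
  exact mem_nonZeroDivisors_iff_right.1 (pow_mem hnz' m) _ (by rw [mul_comm]; exact h4)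

/-- Cohomology of the structure sheaf of the blow-up of a regular sequence over an affine open. -/
theorem affine_case (hb : IsBlowUp b J) (hn : 0 < n)
    (ha : J.ideal U = Ideal.span (Set.range a)) (ha0 : ∀ k, a k ∈ nonZeroDivisors Γ(X, U.1))
    (hreg : RingTheory.Sequence.IsWeaklyRegular Γ(X, U.1) (List.ofFn a)) :
    (∀ p : ℕ, Subsingleton (CohTop.HU (X := X'.toTopCat) (Coh.toAb (Coh.structureModule X')) (p + 1) (b ⁻¹ᵁ U.1))) ∧
      Function.Bijective (b.app U.1) := by
  let D := dopen b U a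
  have hD : D ≤ b ⁻¹ᵁ U.1 := dopen_le b U a
  have hDa := dopen_le_chart b J U a ha
  have hinjD := gm_injective b J U a hb ha ha0
  have hinj : Function.Injective (al b U D hD) := by
    rw [injective_iff_map_eq_zero]
    intro x hx
    rw [← gm_pb b U D hD _ (chart_le b J U (a ⟨0, hn⟩)) (hDa _)] at hx
    have h1 : pb b U _ (chart_le b J U (a ⟨0, hn⟩)) x = 0 :=
      hinjD _ (hDa _) (chart_le b J U _) (by rw [map_zero]; exact hx)
    exact pb_chart_injective b J U hb (mem_ideal J U a ha ⟨0, hn⟩) (ha0 _) (by rw [h1, map_zero])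
  have hu : ∀ k, IsUnit (al b U D hD (a k)) := isUnit_al b U a
  have hE : letI := (al b U D hD).toAlgebra; CechExact Γ(X, U.1) Γ(X', D) a := by
    let _ := (al b U D hD).toAlgebra
    exact Groth.Agent.Krr.H470.CechQR.cechExact_of_isWeaklyRegular a ha0 hreg Γ(X', D) hu hinj
  refine ⟨fun p => subsingleton_HU b J U D hb hD a ha hinjD hDa hu hE p, ?_, ?_⟩
  · intro x y hxy
    apply hinj
    change gm D _ hD ((b.app U.1).hom x) = gm D _ hD ((b.app U.1).hom y)
    exact congrArg _ hxy
  · exact fun s => exists_app b J U D hb hD a ha hDa hinjD hE hn s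

end K870.AffD
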