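import Groth.Agent.Dual.H304.ClosedBC
import Groth.Agent.RatSing.K870.EtaIff

/-!
# Flat base change of a splitting of `O_Y ⟶ Rf_* O_X`
-/

set_option autoImplicit false

universe u

open CategoryTheory CategoryTheory.Limits AlgebraicGeometry

namespace K870.BCUnit

section Abs

universe v₁ v₂ v₃ v₄ u₁ u₂ u₃ u₄

open Groth.Agent.Dual.H307

variable {C : Type u₁} [Category.{v₁} C] {D : Type u₂} [Category.{v₂} D]
  {C' : Type u₃} [Category.{v₃} C'] {D' : Type u₄} [Category.{v₄} D']
  {fs : D ⥤ C} {F : C ⥤ D} (adj : fs ⊣ F) {fs' : D' ⥤ C'} {F' : C' ⥤ D'} (adj' : fs' ⊣ F')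
  {gs : D ⥤ D'} {gs' : C ⥤ C'} (c : gs ⋙ fs' ⟶ fs ⋙ gs')

/-- The base change map and the units. -/
lemma unit_mate (A : D) : gs.map (adj.unit.app A) ≫ (MonNat.mate adj adj' c).app (fs.obj A) =
    adj'.unit.app (gs.obj A) ≫ F'.map (c.app A) := by
  rw [MonNat.mate_app, Adjunction.homEquiv_unit]
  have h1 := adj'.unit.naturality (gs.map (adj.unit.app A))
  have h2 := c.naturality (adj.unit.app A)
  dsimp only [Functor.comp_obj, Functor.comp_map, Functor.id_obj, Functor.id_map] at h1 h2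
  rw [reassoc_of% h1, ← F'.map_comp]
  congr 2
  rw [reassoc_of% h2, ← gs'.map_comp, adj.left_triangle_components, gs'.map_id, Category.comp_id]

/-- If the unit at `A` splits, so does the unit at its base change. -/
lemma exists_retraction (A : D) (hi : IsIso ((MonNat.mate adj adj' c).app (fs.obj A)))
    (r : F.obj (fs.obj A) ⟶ A) (hr : adj.unit.app A ≫ r = 𝟙 A) :
    ∃ r' : F'.obj (fs'.obj (gs.obj A)) ⟶ gs.obj A, adj'.unit.app (gs.obj A) ≫ r' = 𝟙 _ := by
  refine ⟨F'.map (c.app A) ≫ inv ((MonNat.mate adj adj' c).app (fs.obj A)) ≫ gs.map r, ?_⟩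
  have h := unit_mate adj adj' c A
  rw [← reassoc_of% h, IsIso.hom_inv_id_assoc, ← gs.map_comp, hr, gs.map_id]
  rfl

end Abs

attribute [local instance] HasDerivedCategory.standard

open DCoh Groth.Agent Groth.Agent.Dcoh.DerPull

variable {X Y X' Y' : Scheme.{u}} {f : X ⟶ Y} {g : Y' ⟶ Y} {f' : X' ⟶ Y'} {g' : X' ⟶ X}

/-- If `O_Y ⟶ Rf_* O_X` splits, then the trace for any flat base change of `f` is a split
epimorphism. -/
theorem exists_section_trace [QuasiCompact f] [QuasiSeparated f] [Flat g]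
    (sq : IsPullback g' f' f g) [HasRpush f] [HasLpull f] [HasRpush f']
    (r : (Rpush f).obj (inD X (Coh.structureModule X)) ⟶ inD Y (Coh.structureModule Y))
    (hr : EtaIff.eta f ≫ r = 𝟙 _) {K : D Y'} (hK : IsQCohD K) {L : D X'}
    {τ : (Rpush f').obj L ⟶ K} (hu : Ega1.ADualUniv.IsUniv f' K L τ) :
    ∃ s : K ⟶ (Rpush f').obj L, s ≫ τ = 𝟙 K := by
  have : QuasiCompact f' := MorphismProperty.of_isPullback sq ‹QuasiCompact f›
  have : QuasiSeparated f' := MorphismProperty.of_isPullback sq ‹QuasiSeparated f›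
  have : HasLpull f' := hasLpull f'
  have : HasLpull g := hasLpull g
  have : HasLpull g' := hasLpull g'
  let A : D Y := inD Y (Coh.structureModule Y)
  have hA : IsQCohD A :=
    PerfA.QCohD.isQCohD_inD _ (Fdesc.StructMod.isQCoh_structureModule Y)
  have h1 : (lpullAdj f).unit.app A ≫ ((Rpush f).map (EtaIff.lpullO f).hom ≫ r) = 𝟙 A := by
    rw [← Category.assoc]
    exact hr
  have hi := Dual.H304.ClosedBC.isIso_mate (Or.inr ‹Flat g›) sq (lpullAdj f) (lpullAdj f')
    ((Lpull f).obj A) (S1054.result f A hA)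
  obtain ⟨r', hr'⟩ := exists_retraction (lpullAdj f) (lpullAdj f') _ A hi _ h1
  have hA' : IsQCohD ((Lpull g).obj A) := S1054.result g A hA
  obtain ⟨r₂, hr₂⟩ := Eta.exists_retraction f' (I := (Lpull g).obj A) (EtaIff.lpullO g)
    (I' := (Lpull f').obj ((Lpull g).obj A))
    ((Lpull f').mapIso (EtaIff.lpullO g) ≪≫ EtaIff.lpullO f') (S1054.result f' _ hA')
    (Iso.refl _) ((lpullAdj f').unit.app ((Lpull g).obj A)) (by
      rw [Iso.refl_hom, CategoryTheory.Functor.map_id]
      exact (Category.comp_id _).symm) r' (by rw [hr']; exact IsIso.id _) K hK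
  exact Eta.exists_section_trace f' hK hu r₂ hr₂

end K870.BCUnit
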