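import Groth.Agent.Lipman.CosetAvoid
import Mathlib.RingTheory.Regular.RegularSequence
import Mathlib.RingTheory.Ideal.AssociatedPrime.Finiteness
import Mathlib.RingTheory.Ideal.AssociatedPrime.Basic

/-!
# Weakly regular sequences of nonzerodivisors
-/

set_option autoImplicit false

universe u

namespace K870.NzdSeq

open RingTheory.Sequence

variable {A : Type u} [CommRing A]

theorem exists_nzd [IsNoetherianRing A] {a : A} (ha : a ∈ nonZeroDivisors A) (r : A) :
    ∃ c : A, r + c * a ∈ nonZeroDivisors A := by
  have hfin : (associatedPrimes A A).Finite := associatedPrimes.finite A A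
  obtain ⟨c, hc⟩ := Groth.Agent.Lipman.CosetAvoid.exists_forall_notMem hfin.toFinset
    (fun P hP => (hfin.mem_toFinset.1 hP).1) a r (fun P hP h => by
      have h1 : a ∈ ⋃ p ∈ associatedPrimes A A, (p : Set A) :=
        Set.mem_iUnion₂.2 ⟨P, hfin.mem_toFinset.1 hP, h.1⟩
      rw [biUnion_associatedPrimes_eq_compl_nonZeroDivisors] at h1
      exact h1 ha)
  refine ⟨c, ?_⟩
  by_contra hcon
  have h1 : r + c * a ∈ ⋃ p ∈ associatedPrimes A A, (p : Set A) := by
    rw [biUnion_associatedPrimes_eq_compl_nonZeroDivisors]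
    exact hcon
  obtain ⟨P, hP, hrP⟩ := Set.mem_iUnion₂.1 h1
  exact hc P (hfin.mem_toFinset.2 hP) hrP

/-- A weakly regular sequence in a Noetherian ring can be replaced by one consisting of
nonzerodivisors and generating the same ideal. -/
theorem exists_nzd_seq [IsNoetherianRing A] (a : A) (rs : List A) (h : IsWeaklyRegular A (a :: rs)) :
    ∃ rs' : List A, IsWeaklyRegular A (a :: rs') ∧
      Ideal.ofList (a :: rs') = Ideal.ofList (a :: rs) ∧ ∀ r ∈ a :: rs', r ∈ nonZeroDivisors A := by
  have ha : a ∈ nonZeroDivisors A := by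
    rw [isWeaklyRegular_cons_iff] at h
    rw [mem_nonZeroDivisors_iff_right]
    intro x hx
    exact h.1 (by simpa [mul_comm] using hx)
  choose c hc using exists_nzd ha
  have hmap : (rs.map fun r => r + c r * a).map (Ideal.Quotient.mk (Ideal.span {a})) =
      rs.map (Ideal.Quotient.mk (Ideal.span {a})) := by
    rw [List.map_map]
    refine List.map_congr_left fun r _ => ?_
    simp only [Function.comp_apply, map_add, map_mul]
    rw [Ideal.Quotient.eq_zero_iff_mem.2 (Ideal.mem_span_singleton_self a), mul_zero, add_zero]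
  refine ⟨rs.map fun r => r + c r * a, ?_, ?_, ?_⟩
  · rw [isWeaklyRegular_cons_iff'] at h ⊢
    rwa [hmap]
  · rw [Ideal.ofList_cons, Ideal.ofList_cons]
    apply le_antisymm
    · refine sup_le le_sup_left ?_
      unfold Ideal.ofList
      rw [Ideal.span_le]
      intro x hx
      obtain ⟨r, hr, rfl⟩ := List.mem_map.1 hx
      refine Ideal.add_mem _ (Ideal.mem_sup_right (Ideal.subset_span hr)) ?_
      exact Ideal.mul_mem_left _ _ (Ideal.mem_sup_left (Ideal.mem_span_singleton_self a))
    · refine sup_le le_sup_left ?_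
      unfold Ideal.ofList
      rw [Ideal.span_le]
      intro r hr
      have h1 : r = (r + c r * a) + (-(c r)) * a := by ring
      rw [h1]
      refine Ideal.add_mem _ (Ideal.mem_sup_right (Ideal.subset_span (List.mem_map.2 ⟨r, hr, rfl⟩))) ?_
      exact Ideal.mul_mem_left _ _ (Ideal.mem_sup_left (Ideal.mem_span_singleton_self a))
  · intro r hr
    rcases List.mem_cons.1 hr with rfl | hr
    · exact ha
    · obtain ⟨r', -, rfl⟩ := List.mem_map.1 hr
      exact hc r'

end K870.NzdSeq
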