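import Groth.Agent.RatSing.K870.AffD
import Groth.Agent.RatSing.K870.NzdSeq
import Groth.Agent.Sga67.LocBasis
import Groth.Agent.Fga.UnitRestrict
import Groth.Agent.CohqA.HDIZero
import Groth.Agent.Divis.CartierBasic
import Mathlib.RingTheory.Regular.Flat
import Groth.Prelude.Def_RegImm

/-!
# Direct images of the structure sheaf of the blow-up of a regular ideal

`R^q b_* O_{X'} = 0` for `q ≥ 1` and `O_X = b_* O_{X'}` for the blow-up `b : X' ⟶ X` of a locally
Noetherian scheme in an ideal sheaf locally generated by a regular sequence, with nowhere dense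
support.
-/

set_option autoImplicit false

universe u

namespace K870.BlowRegD

open CategoryTheory Limits Opposite AlgebraicGeometry BlowUp Groth.Agent

/-- Adapted affine opens: the ideal is generated by a nonempty weakly regular sequence of
nonzerodivisors. -/
def Adapted {X : Scheme.{u}} (J : X.IdealSheafData) (V : X.affineOpens) : Prop :=
  ∃ (n : ℕ) (a : Fin n → Γ(X, V.1)), 0 < n ∧ J.ideal V = Ideal.span (Set.range a) ∧
    (∀ k, a k ∈ nonZeroDivisors Γ(X, V.1)) ∧
    RingTheory.Sequence.IsWeaklyRegular Γ(X, V.1) (List.ofFn a)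

variable {X X' : Scheme.{u}}

/-- Outside the support the ideal is the unit ideal. -/
theorem ideal_eq_top_of_disjoint (J : X.IdealSheafData) (V : X.affineOpens)
    (h : ∀ x ∈ V.1, x ∉ J.support) : J.ideal V = ⊤ := by
  by_contra hne
  obtain ⟨m, hm, hle⟩ := Ideal.exists_le_maximal _ hne
  let y : PrimeSpectrum Γ(X, V.1) := ⟨m, hm.isPrime⟩
  have h1 : V.2.fromSpec (show Spec Γ(X, V.1) from y) ∈ V.1 := by
    have h2 : V.2.fromSpec (show Spec Γ(X, V.1) from y) ∈ Set.range V.2.fromSpec := ⟨_, rfl⟩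
    rwa [V.2.range_fromSpec] at h2
  refine h _ h1 ?_
  rw [← Scheme.IdealSheafData.mem_supportSet_iff_mem_support,
    Scheme.IdealSheafData.mem_supportSet_iff_of_mem h1, Scheme.mem_zeroLocus_iff]
  intro f hf hx
  rw [← V.2.fromSpec_image_basicOpen] at hx
  obtain ⟨z, hz, hzy⟩ := hx
  have h3 : z = y := V.2.fromSpec.isOpenEmbedding.injective hzy
  rw [h3] at hz
  exact hz (hle hf)

theorem exists_adapted [IsLocallyNoetherian X] (J : X.IdealSheafData)
    (hJ : RegImm.IsRegularIdeal RegImm.Kind.regular J) (hd : Dense ((J.support : Set X)ᶜ))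
    (x : X) (W : X.Opens) (hW : x ∈ W) :
    ∃ V : X.affineOpens, x ∈ V.1 ∧ V.1 ≤ W ∧ Adapted J V := by
  by_cases hx : x ∈ J.support
  · obtain ⟨⟨U, hU⟩, hxU, rs, hrs, hker⟩ := hJ x hx
    have hrs1 : RingTheory.Sequence.IsWeaklyRegular Γ(X, U) rs :=
      RingTheory.Sequence.IsRegular.toIsWeaklyRegular hrs
    cases rs with
    | nil =>
      exfalso
      obtain ⟨y, hyU, hy⟩ := hd.inter_open_nonempty _ U.isOpen ⟨x, hxU⟩
      apply hy
      change y ∈ J.support
      rw [← Scheme.IdealSheafData.mem_supportSet_iff_mem_support,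
        Scheme.IdealSheafData.mem_supportSet_iff_of_mem (U := ⟨U, hU⟩) hyU,
        Scheme.mem_zeroLocus_iff]
      intro f hf
      rw [hker, Ideal.ofList_nil] at hf
      rw [(Submodule.mem_bot _).1 hf, Scheme.basicOpen_zero]
      exact fun h => h
    | cons a rs =>
      obtain ⟨f, hfle, hfx⟩ := hU.exists_basicOpen_le ⟨x, hW⟩ hxU
      have hVU : X.basicOpen f ≤ U := X.basicOpen_le f
      let V : X.affineOpens := ⟨X.basicOpen f, hU.basicOpen f⟩
      have hloc := hU.isLocalization_basicOpen f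
      let ρ : Γ(X, U) →+* Γ(X, V.1) := (X.presheaf.map (homOfLE hVU).op).hom
      have hrs' : RingTheory.Sequence.IsWeaklyRegular Γ(X, V.1) (ρ a :: rs.map ρ) :=
        hrs1.of_isLocalization Γ(X, X.basicOpen f) (Submonoid.powers f)
      have hJV : J.ideal V = Ideal.ofList (ρ a :: rs.map ρ) := by
        have h1 := J.map_ideal (U := V) (V := ⟨U, hU⟩) hVU
        rw [← h1, hker, Ideal.map_ofList]
        rfl
      have hN : IsNoetherianRing Γ(X, V.1) := IsLocallyNoetherian.component_noetherian V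
      obtain ⟨rs', h1, h2, h3⟩ := NzdSeq.exists_nzd_seq _ _ hrs'
      refine ⟨V, hfx, hfle, (ρ a :: rs').length, (ρ a :: rs').get, by simp, ?_, ?_, ?_⟩
      · rw [hJV, ← h2, Ideal.ofList]
        congr 1
        ext x
        simp only [Set.mem_ofPred_eq, Set.mem_range]
        rw [List.mem_iff_get]
      · exact fun k => h3 _ (List.get_mem _ _)
      · rwa [List.ofFn_get]
  · let W' : X.Opens := ⟨(J.support : Set X)ᶜ, J.support.isClosed.isOpen_compl⟩
    obtain ⟨V, hxV, hVW', hVW⟩ := Divis.CartierBasic.exists_affine_le W' W hx hW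
    refine ⟨V, hxV, hVW, 1, fun _ => 1, Nat.one_pos, ?_, fun _ => one_mem _, ?_⟩
    · rw [ideal_eq_top_of_disjoint J V fun y hy => hVW' hy, Set.range_const,
        Ideal.span_singleton_one]
    · have : List.ofFn (fun _ : Fin 1 => (1 : Γ(X, V.1))) = [1] := by simp
      rw [this, RingTheory.Sequence.isWeaklyRegular_singleton_iff]
      exact IsSMulRegular.one _

variable [IsLocallyNoetherian X] (J : X.IdealSheafData)
    (hJ : RegImm.IsRegularIdeal RegImm.Kind.regular J) (hd : Dense ((J.support : Set X)ᶜ))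
    (b : X' ⟶ X) (hb : IsBlowUp b J)

include hJ hd hb

/-- Vanishing of the higher direct images of the structure sheaf. -/
theorem isZero_RpushAb (q : ℕ) (hq : 1 ≤ q) :
    IsZero ((Coh.RpushAb b q).obj (Coh.toAb (Coh.structureModule X'))) := by
  obtain ⟨q, rfl⟩ : ∃ p, q = p + 1 := ⟨q - 1, by omega⟩
  refine CohqA.HDIZero.isZero_RpushAb b _ (q + 1)
    {V | ∃ V' : X.affineOpens, Adapted J V' ∧ V = V'.1} ?_ ?_
  · rw [TopologicalSpace.Opens.isBasis_iff_nbhd]
    intro W x hx
    obtain ⟨V, hxV, hVW, hV⟩ := exists_adapted J hJ hd x W hx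
    exact ⟨V.1, ⟨V, hV, rfl⟩, hxV, hVW⟩
  · rintro _ ⟨V, ⟨n, a, hn, ha, ha0, hreg⟩, rfl⟩
    exact (AffD.affine_case b J V a hb hn ha ha0 hreg).1 q

/-- `O_X = b_* O_{X'}`. -/
theorem isIso_unitToPush : IsIso (Fga.UnitRestrict.unitToPush b) := by
  refine Sga67.LocBasis.isIso_of_bijective _ fun x U hx => ?_
  obtain ⟨V, hxV, hVU, ⟨n, a, hn, ha, ha0, hreg⟩⟩ := exists_adapted J hJ hd x U hx
  exact ⟨V.1, hVU, hxV, (AffD.affine_case b J V a hb hn ha ha0 hreg).2⟩

end K870.BlowRegD
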