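import Groth.Agent.Sga3C.QSliceAlg
import Groth.Agent.CalgB.CMPoly
import Groth.Agent.Ega4B.DepthBasic
import Groth.Agent.Sga67.BlowReg
import Groth.Agent.Sga67.BlowQuot
import Groth.Prelude.Def_RegImm

/-!
# Cohen–Macaulayness of the charts of the blow-up of a regular sequence
-/

set_option autoImplicit false
universe u

open CategoryTheory AlgebraicGeometry Limits BlowUp

namespace K870.CMBlow

open IsLocalRing RingTheory.Sequence Groth.Agent

/-- A Noetherian local ring is Cohen–Macaulay iff its quotient by a regular sequence is. -/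
theorem cm_iff_quotient_ofList {B : Type u} [CommRing B] [IsLocalRing B] [IsNoetherianRing B]
    (rs : List B) (hm : ∀ r ∈ rs, r ∈ maximalIdeal B) (hreg : IsWeaklyRegular B rs) :
    LocCoh.IsCohenMacaulayLocalRing B ↔ LocCoh.IsCohenMacaulayLocalRing (B ⧸ Ideal.ofList rs) := by
  have hle : Ideal.ofList rs ≤ maximalIdeal B := Ideal.span_le.2 hm
  have hne : Ideal.ofList rs ≠ ⊤ := fun h => by
    rw [h, top_le_iff] at hle
    exact (maximalIdeal.isMaximal B).ne_top hle
  have hnt : Nontrivial (B ⧸ Ideal.ofList rs) := Ideal.Quotient.nontrivial_iff.mpr hne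
  have hloc : IsLocalRing (B ⧸ Ideal.ofList rs) :=
    IsLocalRing.of_surjective' (Ideal.Quotient.mk _) Ideal.Quotient.mk_surjective
  have hr : IsRegular B rs := ⟨hreg, by
    rw [smul_eq_mul, Ideal.mul_top]; exact hne.symm⟩
  have h1 := Ega4B.DepthBasic.depth_quot_ofList_add_length rs hm B hreg
  have h3 := ringKrullDim_add_length_eq_ringKrullDim_of_isRegular rs hr
  have eq : Ideal.ofList rs • (⊤ : Ideal B) = Ideal.ofList rs := by simp
  rw [eq] at h1
  have h0 : LocCoh.depth B (B ⧸ Ideal.ofList rs) =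
      LocCoh.depth (B ⧸ Ideal.ofList rs) (B ⧸ Ideal.ofList rs) :=
    Sga3C.QSliceAlg.depth_of_surjective (R := B) (S := B ⧸ Ideal.ofList rs)
      Ideal.Quotient.mk_surjective _
  constructor
  · intro hB
    refine { supportDim_eq_depth := ?_ }
    have h2 : Module.supportDim B B = LocCoh.depth B B := hB.supportDim_eq_depth
    rw [Module.supportDim_self_eq_ringKrullDim] at h2 ⊢
    rw [← h0]
    rw [h2, ← h1] at h3
    obtain ⟨d, hd⟩ : ∃ d : ℕ∞, ringKrullDim (B ⧸ Ideal.ofList rs) = d :=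
      WithBot.ne_bot_iff_exists.mp ringKrullDim_ne_bot |>.imp fun _ h => h.symm
    rw [hd] at h3 ⊢
    have h4 : d + (rs.length : ℕ∞) = LocCoh.depth B (B ⧸ Ideal.ofList rs) + (rs.length : ℕ∞) := by
      exact_mod_cast h3
    have h5 := (ENat.add_left_injective_of_ne_top (ENat.natCast_ne_top rs.length)) h4
    rw [h5]
  · intro hQ
    refine { supportDim_eq_depth := ?_ }
    have h2 : Module.supportDim (B ⧸ Ideal.ofList rs) (B ⧸ Ideal.ofList rs) =
      LocCoh.depth (B ⧸ Ideal.ofList rs) (B ⧸ Ideal.ofList rs) := hQ.supportDim_eq_depth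
    rw [Module.supportDim_self_eq_ringKrullDim] at h2 ⊢
    rw [← h3, h2, ← h1, h0]
    norm_cast

theorem map_localization_le (B : Type u) [CommRing B] (I q : Ideal B) [q.IsPrime] (h : I ≤ q) :
    I.map (algebraMap B (Localization.AtPrime q)) ≤ maximalIdeal (Localization.AtPrime q) := by
  rw [← Localization.AtPrime.map_eq_maximalIdeal]
  exact Ideal.map_mono h

/-- Localization of a quotient ring. -/
theorem cm_quotient_map_iff {S : Type u} [CommRing S] (p q : Ideal S)
    [q.IsPrime] (hpq : p ≤ q) (q' : Ideal (S ⧸ p)) [q'.IsPrime]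
    (hq' : q'.comap (Ideal.Quotient.mk p) = q) :
    LocCoh.IsCohenMacaulayLocalRing (Localization.AtPrime q') ↔
    LocCoh.IsCohenMacaulayLocalRing
      (Localization.AtPrime q ⧸ p.map (algebraMap S (Localization.AtPrime q))) := by
  have h1 : Algebra.algebraMapSubmonoid (S ⧸ p) q.primeCompl = q'.primeCompl := by
    ext x
    constructor
    · rintro ⟨y, hy, rfl⟩
      intro hy'
      apply hy
      rw [SetLike.mem_coe, ← hq']
      exact hy'
    · intro hx
      obtain ⟨y, rfl⟩ := Ideal.Quotient.mk_surjective x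
      refine ⟨y, fun hy => hx ?_, rfl⟩
      rw [SetLike.mem_coe, ← hq'] at hy
      exact hy
  have h2 : IsLocalization (Algebra.algebraMapSubmonoid (S ⧸ p) q.primeCompl)
      (Localization.AtPrime q ⧸ p.map (algebraMap S (Localization.AtPrime q))) := inferInstance
  rw [h1] at h2
  let e := (IsLocalization.algEquiv q'.primeCompl
    (Localization.AtPrime q')
    (Localization.AtPrime q ⧸ p.map (algebraMap S (Localization.AtPrime q)))).toRingEquiv
  exact ⟨fun h => CalgB.CMPoly.isCohenMacaulayLocalRing_of_ringEquiv e,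
    fun h => CalgB.CMPoly.isCohenMacaulayLocalRing_of_ringEquiv e.symm⟩

/-- A quotient of a Cohen–Macaulay ring by a weakly regular sequence is Cohen–Macaulay. -/
theorem cmRing_quotient_ofList {A : Type u} [CommRing A] [hA : LocCoh.IsCohenMacaulayRing A]
    (rs : List A) (hrs : IsWeaklyRegular A rs) :
    LocCoh.IsCohenMacaulayRing (A ⧸ Ideal.ofList rs) := by
  refine { isCohenMacaulayLocalRing_localization := fun q' hq' => ?_ }
  set q := q'.comap (Ideal.Quotient.mk (Ideal.ofList rs)) with hq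
  have hle : Ideal.ofList rs ≤ q := by
    intro x hx
    rw [hq, Ideal.mem_comap, Ideal.Quotient.eq_zero_iff_mem.2 hx]
    exact q'.zero_mem
  rw [cm_quotient_map_iff (Ideal.ofList rs) q hle q' rfl, Ideal.map_ofList]
  have hcm := hA.isCohenMacaulayLocalRing_localization q
  refine (cm_iff_quotient_ofList (rs.map (algebraMap A (Localization.AtPrime q))) ?_
    (hrs.of_flat (S := Localization.AtPrime q))).1 hcm
  intro r hr
  have h1 := map_localization_le A _ q hle
  rw [Ideal.map_ofList] at h1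
  exact h1 (Ideal.subset_span hr)

/-- If `B/(a)` is Cohen–Macaulay and `a` is a nonzerodivisor of the Noetherian ring `B`, then `B` is
Cohen–Macaulay at all primes containing `a`. -/
theorem cm_of_quotient {B : Type u} [CommRing B] [IsNoetherianRing B] (a : B)
    (ha : a ∈ nonZeroDivisors B)
    [hB : LocCoh.IsCohenMacaulayRing (B ⧸ Ideal.span {a})] (q : Ideal B) [q.IsPrime] (haq : a ∈ q) :
    LocCoh.IsCohenMacaulayLocalRing (Localization.AtPrime q) := by
  have hle : Ideal.span {a} ≤ q := by rwa [Ideal.span_singleton_le_iff_mem]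
  let q' : Ideal (B ⧸ Ideal.span {a}) := q.map (Ideal.Quotient.mk _)
  have hq' : q'.comap (Ideal.Quotient.mk _) = q := by
    rw [Ideal.comap_map_of_surjective _ Ideal.Quotient.mk_surjective, ← RingHom.ker_eq_comap_bot,
      Ideal.mk_ker, sup_eq_left]
    exact hle
  have hprime : q'.IsPrime := Ideal.map_isPrime_of_surjective Ideal.Quotient.mk_surjective
    (by rw [Ideal.mk_ker]; exact hle)
  have h1 := (cm_quotient_map_iff (Ideal.span {a}) q hle q' hq').1
    (hB.isCohenMacaulayLocalRing_localization q')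
  have h2 : (Ideal.span {a}).map (algebraMap B (Localization.AtPrime q)) =
      Ideal.ofList [algebraMap B (Localization.AtPrime q) a] := by
    rw [Ideal.map_span, Set.image_singleton, Ideal.ofList_singleton]
  rw [h2] at h1
  refine (cm_iff_quotient_ofList _ ?_ ?_).2 h1
  · intro r hr
    rw [List.mem_singleton] at hr
    subst hr
    rwa [← IsLocalization.AtPrime.to_map_mem_maximal_iff (Localization.AtPrime q) q] at haq
  · rw [isWeaklyRegular_cons_iff]
    refine ⟨?_, IsWeaklyRegular.nil _ _⟩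
    exact (isRegular_iff_mem_nonZeroDivisors.2 (IsLocalization.map_nonZeroDivisors_le
      q.primeCompl (Localization.AtPrime q) ⟨a, ha, rfl⟩)).left.isSMulRegular

/-- The exceptional fibre of a chart is Cohen–Macaulay. -/
theorem cmRing_chart {A : Type u} [CommRing A] {I : Ideal A} {c : ℕ} {f : Fin c → A}
    (hI : I = Ideal.span (Set.range f))
    (hf : CAlgX.IsQuasiRegular f) (k : Fin c) [LocCoh.IsCohenMacaulayRing (A ⧸ I)] :
    LocCoh.IsCohenMacaulayRing (affineAlgebra A I (f k) ⧸
      Ideal.span {algebraMap A (affineAlgebra A I (f k)) (f k)}) := by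
  subst hI
  let n := Fintype.card {i : Fin c // i ≠ k}
  let e : {i : Fin c // i ≠ k} ≃ Fin n := Fintype.equivFin _
  have h1 : LocCoh.IsCohenMacaulayRing (MvPolynomial (Fin n) (A ⧸ Ideal.span (Set.range f))) :=
    CalgB.CMPoly.isCohenMacaulayRing_mvPolynomial _ _
  have h2 : LocCoh.IsCohenMacaulayRing (MvPolynomial {i : Fin c // i ≠ k}
      (A ⧸ Ideal.span (Set.range f))) :=
    CalgB.CMPoly.isCohenMacaulayRing_of_ringEquiv
      (MvPolynomial.renameEquiv (A ⧸ Ideal.span (Set.range f)) e).symm.toRingEquiv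
  exact CalgB.CMPoly.isCohenMacaulayRing_of_ringEquiv (Sga67.BlowQuot.quotEquiv k hf).symm

/-! ### Schemes -/

theorem cmRing_of_stalks {X : Scheme.{u}} {V : X.Opens} (hV : IsAffineOpen V)
    [IsNoetherianRing Γ(X, V)]
    (h : ∀ x ∈ V, LocCoh.IsCohenMacaulayLocalRing (X.presheaf.stalk x)) :
    LocCoh.IsCohenMacaulayRing Γ(X, V) := by
  refine { isCohenMacaulayLocalRing_localization := fun p hp => ?_ }
  obtain ⟨x, hx⟩ := Sga67.BlowReg.exists_primeIdealOf_eq hV ⟨p, hp⟩
  have := h x.1 x.2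
  have h2 : p = (hV.primeIdealOf x).asIdeal := by rw [hx]
  subst h2
  exact CalgB.CMPoly.isCohenMacaulayLocalRing_of_ringEquiv (Sga67.BlowReg.stalkEquiv hV x.2).symm

theorem cm_stalk_iff {X U : Scheme.{u}} (c : U ⟶ X) [IsOpenImmersion c] (q : U) :
    LocCoh.IsCohenMacaulayLocalRing (X.presheaf.stalk (c q)) ↔
      LocCoh.IsCohenMacaulayLocalRing (U.presheaf.stalk q) :=
  ⟨fun _ => CalgB.CMPoly.isCohenMacaulayLocalRing_of_ringEquiv
    (asIso (c.stalkMap q)).commRingCatIsoToRingEquiv,
   fun _ => CalgB.CMPoly.isCohenMacaulayLocalRing_of_ringEquiv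
    (asIso (c.stalkMap q)).commRingCatIsoToRingEquiv.symm⟩

theorem cm_spec_stalk {B : Type u} [CommRing B] (q : Spec (CommRingCat.of B))
    (_h : LocCoh.IsCohenMacaulayLocalRing (Localization.AtPrime q.asIdeal)) :
    LocCoh.IsCohenMacaulayLocalRing ((Spec (CommRingCat.of B)).presheaf.stalk q) :=
  CalgB.CMPoly.isCohenMacaulayLocalRing_of_ringEquiv (StructureSheaf.stalkIso B q).toRingEquiv

open Groth.Agent.Divis Groth.Agent.Divis.IdealComap Groth.Agent.Divis.BlowChart
  Groth.Agent.Sga67 Groth.Agent.Sga67.BlowReg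

/-- Data of a chart around a point of the blow-up of an ideal which is locally generated by a regular
sequence. -/
theorem exists_cm_chart {X Y X' : Scheme.{u}} (i : Y ⟶ X) (hi : Mor2.IsRegularClosedImmersion i)
    {f : X' ⟶ X} (hf : IsBlowUp f i.ker) (x' : X') (y : Y) (hy : i y = f x') :
    ∃ (V : X.affineOpens) (a : Γ(X, V.1)) (_ : a ∈ i.ker.ideal V)
      (c : Spec (CommRingCat.of (affineAlgebra Γ(X, V.1) (i.ker.ideal V) a)) ⟶ X')
      (_ : IsOpenImmersion c)
      (q : Spec (CommRingCat.of (affineAlgebra Γ(X, V.1) (i.ker.ideal V) a))),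
      f x' ∈ V.1 ∧ c q = x' ∧ c ≫ f = chartMap (i.ker.ideal V) a ≫ V.2.fromSpec ∧
      (LocCoh.IsCohenMacaulayRing Γ(X, V.1) → LocCoh.IsCohenMacaulayRing
        (affineAlgebra Γ(X, V.1) (i.ker.ideal V) a ⧸
          Ideal.span {algebraMap Γ(X, V.1) (affineAlgebra Γ(X, V.1) (i.ker.ideal V) a) a})) ∧
      Algebra.FiniteType Γ(X, V.1) (affineAlgebra Γ(X, V.1) (i.ker.ideal V) a) := by
  obtain ⟨-, h⟩ := hi
  obtain ⟨U, hU, hyU, rs, hrs, hker⟩ := h y
  have hrs' : RingTheory.Sequence.IsWeaklyRegular Γ(X, U) (List.ofFn rs.get) := by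
    rw [List.ofFn_get]; exact hrs.toIsWeaklyRegular
  have hq := isQuasiRegular_of_isWeaklyRegular rs.get hrs'
  have hspan : i.ker.ideal ⟨U, hU⟩ = Ideal.span (Set.range rs.get) := by
    rw [hker, Ideal.ofList]
    congr 1
    ext x
    simp [List.mem_iff_get]
  obtain ⟨a, ⟨k, rfl⟩, c, hc, q, hq', hcf⟩ := BlowCover.exists_chart hf ⟨U, hU⟩
    (Set.range rs.get) hspan x' (by rw [← hy]; exact hyU)
  refine ⟨⟨U, hU⟩, rs.get k, ?_, c, hc, q, by rw [← hy]; exact hyU, hq', hcf, fun hcm => ?_, ?_⟩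
  · rw [hspan]; exact Ideal.subset_span ⟨k, rfl⟩
  · have : LocCoh.IsCohenMacaulayRing (Γ(X, U) ⧸ i.ker.ideal ⟨U, hU⟩) := by
      rw [hker]
      exact cmRing_quotient_ofList rs hrs.toIsWeaklyRegular
    exact cmRing_chart hspan hq k
  · exact finiteType_chart hspan k

/-- **Cohen–Macaulayness of the blow-up of a regularly immersed centre** at the points over the
centre. -/
theorem cm_blowUp_center {X Y X' : Scheme.{u}} [IsLocallyNoetherian X] (i : Y ⟶ X)
    (hi : Mor2.IsRegularClosedImmersion i)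
    (hX : ∀ x : X, LocCoh.IsCohenMacaulayLocalRing (X.presheaf.stalk x)) {f : X' ⟶ X}
    (hf : IsBlowUp f i.ker) (x' : X') (y : Y) (hw : i y = f x') :
    LocCoh.IsCohenMacaulayLocalRing (X'.presheaf.stalk x') := by
  have : IsClosedImmersion i := hi.1
  obtain ⟨V, a, ha, c, hc, q, hV, hq, hcf, hreg, hft⟩ := exists_cm_chart i hi hf x' y hw
  have hA : IsNoetherianRing Γ(X, V.1) := IsLocallyNoetherian.component_noetherian V
  have hB : IsNoetherianRing (affineAlgebra Γ(X, V.1) (i.ker.ideal V) a) :=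
    Algebra.FiniteType.isNoetherianRing Γ(X, V.1) _
  have hBa := hreg (cmRing_of_stalks V.2 fun x _ => hX x)
  rw [← hq, cm_stalk_iff]
  exact cm_spec_stalk q (cm_of_quotient _
      (BlowAlg.algebraMap_mem_nonZeroDivisors (i.ker.ideal V) a) q.asIdeal
      (mem_of_chart hw V a ha c hcf q hq hV))

theorem isRegularClosedImmersion_of_isRegularIdeal {X : Scheme.{u}} (J : X.IdealSheafData)
    (hJ : RegImm.IsRegularIdeal RegImm.Kind.regular J) :
    Mor2.IsRegularClosedImmersion J.subschemeι := by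
  refine ⟨inferInstance, fun z => ?_⟩
  have hz : J.subschemeι z ∈ J.support := by
    have : J.subschemeι z ∈ Set.range J.subschemeι := ⟨z, rfl⟩
    rw [J.range_subschemeι] at this
    exact this
  obtain ⟨U, hU, rs, hrs, hI⟩ := hJ _ hz
  exact ⟨U.1, U.2, hU, rs, hrs, by rw [J.ker_subschemeι]; exact hI⟩

/-- The blow-up of a Cohen–Macaulay scheme in an ideal locally generated by a regular sequence is
Cohen–Macaulay. -/
theorem cm_blowUp {X X' : Scheme.{u}} [IsLocallyNoetherian X] (J : X.IdealSheafData)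
    (hJ : RegImm.IsRegularIdeal RegImm.Kind.regular J)
    (hX : ∀ x : X, LocCoh.IsCohenMacaulayLocalRing (X.presheaf.stalk x)) {f : X' ⟶ X}
    (hf : IsBlowUp f J) (x' : X') :
    LocCoh.IsCohenMacaulayLocalRing (X'.presheaf.stalk x') := by
  by_cases hx : f x' ∈ J.support
  · have h1 : f x' ∈ Set.range J.subschemeι := by
      rw [J.range_subschemeι]; exact hx
    obtain ⟨y, hy⟩ := h1
    exact cm_blowUp_center J.subschemeι (isRegularClosedImmersion_of_isRegularIdeal J hJ) hX
      (by rwa [J.ker_subschemeι]) x' y hy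
  · have h1 : IsIso (f ∣_ J.support.compl) :=
      Divis.BlowUpFormal.isIso_morphismRestrict_compl_support hf _ disjoint_compl_left
    have h2 : x' ∈ f ⁻¹ᵁ J.support.compl := hx
    have h3 := hX ((f ∣_ J.support.compl) ⟨x', h2⟩).1
    have h4 := (cm_stalk_iff (Scheme.Opens.ι J.support.compl)
      ((f ∣_ J.support.compl) ⟨x', h2⟩)).1 h3
    have h5 := (cm_stalk_iff (f ∣_ J.support.compl) ⟨x', h2⟩).1 h4
    exact (cm_stalk_iff (Scheme.Opens.ι (f ⁻¹ᵁ J.support.compl)) ⟨x', h2⟩).2 h5

end K870.CMBlow
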