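import Groth.Agent.S1809
import Groth.Agent.Sga4h.GeoDim2
import Groth.Agent.Ega1.DualSchBdd
import Groth.Agent.Ega3B.Devissage
import Groth.Agent.Dcoh.StalkMod
import Groth.Agent.PerfB.OpenAdj
import Groth.Agent.Dcoh.DerSch

/-!
# The degree of the dualizing complex of a Cohen–Macaulay scheme
-/

set_option autoImplicit false

universe u

open CategoryTheory Category Limits AlgebraicGeometry

attribute [local instance] HasDerivedCategory.standard

namespace K870.DualDeg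

open DCoh Groth.Agent
open Groth.Agent.PerfA.Restrict (stalkAb stalkRestrict HDrestrict)

/-- A coherent sheaf with nonzero stalk at a generization has nonzero stalk. -/
theorem nontrivial_of_specializes {X : Scheme.{u}} [IsLocallyNoetherian X] {M : X.Modules}
    (hM : Coh.IsCoh M) {x y : X} (h : x ⤳ y) (hx : Nontrivial (M.presheaf.stalk x)) :
    Nontrivial (M.presheaf.stalk y) := by
  have h1 : IsClosed (CohB1.support M) := Ega3B.Devissage.isClosed_support hM
  have h2 : x ∈ CohB1.support M := by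
    change ¬ Subsingleton _
    rwa [not_subsingleton_iff_nontrivial]
  have h3 : y ∈ CohB1.support M := h.mem_closed h1 h2
  change ¬ Subsingleton _ at h3
  rwa [not_subsingleton_iff_nontrivial] at h3

/-- The cohomology of a dualizing complex on a Cohen–Macaulay scheme is concentrated in one degree
if it is so over a dense open. -/
theorem isZero_HD_of_dense (X : Scheme.{u}) [IsLocallyNoetherian X]
    [∀ (U : Scheme.{u}) (j : U ⟶ X) [IsOpenImmersion j],
      PreservesFiniteLimits (Scheme.Modules.restrictFunctor j)]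
    [∀ (R : CommRingCat.{u}), PreservesFiniteLimits (tilde.functor R)]
    (ω : D X) (hω : Dual2.IsDualizingSch X ω)
    (hcm : ∀ x : X, LocCoh.IsCohenMacaulayLocalRing (X.presheaf.stalk x))
    (V : X.Opens) (hV : Dense (V : Set X)) (n : ℤ)
    (hVn : ∀ i : ℤ, i ≠ n → ∀ x ∈ V, Subsingleton ((HD ω i).presheaf.stalk x))
    (i : ℤ) (hi : i ≠ n) : IsZero (HD ω i) := by
  have hcoh := Ega1.DualSchBdd.isCohD_of_isDualizingSch hω
  apply Dcoh.StalkMod.isZero_of_subsingleton
  intro x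
  obtain ⟨ξ, hξV, hξ⟩ := Sga4h.GeoDim.exists_mem_specializes_of_dense V hV x
  obtain ⟨j, hj, -⟩ := ((S1809.result X ω hω).1 ξ).1 (hcm ξ)
  have hjn : j = n := by
    by_contra hne
    have h1 := hVn j hne ξ hξV
    exact (not_subsingleton_iff_nontrivial.2 hj) h1
  subst hjn
  have h2 : Nontrivial ((HD ω j).presheaf.stalk x) := nontrivial_of_specializes (hcoh j) hξ hj
  obtain ⟨k, hk, huniq⟩ := ((S1809.result X ω hω).1 x).1 (hcm x)
  by_contra hcon
  rw [not_subsingleton_iff_nontrivial] at hcon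
  exact hi ((huniq i hcon).trans (huniq j h2).symm)

/-- A dualizing complex concentrated in one degree: the scheme is Cohen–Macaulay. -/
theorem cm_of_isZero (X : Scheme.{u}) [IsLocallyNoetherian X]
    [∀ (U : Scheme.{u}) (j : U ⟶ X) [IsOpenImmersion j],
      PreservesFiniteLimits (Scheme.Modules.restrictFunctor j)]
    [∀ (R : CommRingCat.{u}), PreservesFiniteLimits (tilde.functor R)]
    (ω : D X) (hω : Dual2.IsDualizingSch X ω) (n : ℤ) (h : ∀ i : ℤ, i ≠ n → IsZero (HD ω i))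
    (x : X) (hx : Nontrivial ((HD ω n).presheaf.stalk x)) :
    LocCoh.IsCohenMacaulayLocalRing (X.presheaf.stalk x) := by
  refine ((S1809.result X ω hω).1 x).2 ⟨n, hx, fun i hi => ?_⟩
  by_contra hne
  have := Dcoh.StalkMod.subsingleton_of_isZero (h i hne) x
  exact (not_subsingleton_iff_nontrivial.2 hi) this

section Push

variable {X Y : Scheme.{u}} (f : X ⟶ Y) [HasRpush f]

/-- Where `f` is an isomorphism, the stalks of `H^i(Rf_* L)` are those of `H^i(L)`. -/
theorem nonempty_stalk_iso (V : Y.Opens) [IsIso (f ∣_ V)] (L : D X) (i : ℤ) (x : X)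
    (hx : f x ∈ V) :
    Nonempty ((HD ((Rpush f).obj L) i).presheaf.stalk (f x) ≃+ (HD L i).presheaf.stalk x) := by
  have hg : HasRpush (f ∣_ V) := Dcoh.DerSch.hasRpush _
  obtain ⟨e⟩ := Dcoh.DerSch.exists_rpushRestrictIso f (f ∣_ V) (f ⁻¹ᵁ V).ι V.ι
    (isPullback_morphismRestrict f V).flip
  let u : (f ⁻¹ᵁ V : Scheme.{u}) := ⟨x, hx⟩
  have hu : V.ι ((f ∣_ V) u) = f x := by
    rw [← Scheme.Hom.comp_apply, morphismRestrict_ι]
    rfl
  let e1 : (restrictD (f ∣_ V)).obj ((restrictD V.ι).obj ((Rpush f).obj L)) ≅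
      (restrictD (f ⁻¹ᵁ V).ι).obj L :=
    (restrictD (f ∣_ V)).mapIso (e.app L) ≪≫
      (asIso (PerfB.OpenAdj.openAdj (f ∣_ V)).counit).app ((restrictD (f ⁻¹ᵁ V).ι).obj L)
  let s1 : (stalkAb u).obj (HD ((restrictD (f ∣_ V)).obj
      ((restrictD V.ι).obj ((Rpush f).obj L))) i) ≅
      (stalkAb (V.ι ((f ∣_ V) u))).obj (HD ((Rpush f).obj L) i) :=
    (stalkAb u).mapIso (HDrestrict (f ∣_ V) _ i) ≪≫ (stalkRestrict (f ∣_ V) u).app _ ≪≫
      (stalkAb ((f ∣_ V) u)).mapIso (HDrestrict V.ι _ i) ≪≫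
      (stalkRestrict V.ι ((f ∣_ V) u)).app _
  let s2 : (stalkAb u).obj (HD ((restrictD (f ⁻¹ᵁ V).ι).obj L) i) ≅
      (stalkAb ((f ⁻¹ᵁ V).ι u)).obj (HD L i) :=
    (stalkAb u).mapIso (HDrestrict (f ⁻¹ᵁ V).ι _ i) ≪≫ (stalkRestrict (f ⁻¹ᵁ V).ι u).app _
  let s3 := s1.symm ≪≫ (stalkAb u).mapIso
    ((DerivedCategory.homologyFunctor _ i).mapIso e1) ≪≫ s2
  have h1 : Nonempty ((HD ((Rpush f).obj L) i).presheaf.stalk (V.ι ((f ∣_ V) u)) ≃+
      (HD L i).presheaf.stalk ((f ⁻¹ᵁ V).ι u)) := ⟨s3.addCommGroupIsoToAddEquiv⟩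
  rw [hu] at h1
  exact h1

omit [HasRpush f] in
theorem exists_preimage (V : Y.Opens) [IsIso (f ∣_ V)] (y : Y) (hy : y ∈ V) :
    ∃ x : X, f x = y := by
  obtain ⟨u, hu⟩ := (f ∣_ V).surjective ⟨y, hy⟩
  refine ⟨(f ⁻¹ᵁ V).ι u, ?_⟩
  rw [← Scheme.Hom.comp_apply, ← morphismRestrict_ι, Scheme.Hom.comp_apply, hu]
  rfl

end Push

end K870.DualDeg
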