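import Groth.Agent.S1573

/-!
# Points of dimension zero lie in every dense open
-/

set_option autoImplicit false
universe u
open CategoryTheory AlgebraicGeometry TopologicalSpace

namespace K870.GenPt

/-- A point whose local ring has dimension `≤ 0` has no proper generization. -/
theorem eq_of_specializes_of_dim_le_zero (X : Scheme.{u}) (x : X)
    (hx : ringKrullDim (X.presheaf.stalk x) ≤ 0) (y : X) (hy : y ⤳ x) : y = x := by
  have : y ∈ Set.range (X.fromSpecStalk x) := by
    rw [Scheme.range_fromSpecStalk]
    exact hy
  obtain ⟨z, rfl⟩ := this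
  have hz : z = IsLocalRing.closedPoint (X.presheaf.stalk x) := by
    have h0 : Ring.KrullDimLE 0 (X.presheaf.stalk x) := by
      rw [Ring.krullDimLE_iff]
      exact_mod_cast hx
    have hp := z.isPrime
    have hm : z.asIdeal.IsMaximal := Ideal.IsPrime.isMaximal' hp
    exact PrimeSpectrum.ext (IsLocalRing.eq_maximalIdeal hm)
  rw [hz]
  exact Scheme.fromSpecStalk_closedPoint

/-- In a locally Noetherian scheme a point of dimension `≤ 0` lies in every dense open. -/
theorem mem_of_dense_of_dim_le_zero (X : Scheme.{u}) [IsLocallyNoetherian X] (U : X.Opens)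
    (hU : Dense (U : Set X)) (x : X) (hx : ringKrullDim (X.presheaf.stalk x) ≤ 0) : x ∈ U :=
  Groth.Agent.S1573.mem_of_dense X U hU x fun y hy => eq_of_specializes_of_dim_le_zero X x hx y hy

end K870.GenPt
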