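import Groth.Agent.RatSing.K870.DualDeg
import Groth.Agent.RatSing.K870.GenPt
import Groth.Agent.Dual.H341.CMSch
import Groth.Agent.Ega4C.SupportLoc
import Groth.Agent.Divis.WeakAss
import Groth.Agent.Divis.StalkMod
import Groth.Agent.CalgA.DepthSmall

/-!
# Depth and weakly associated points of the dualizing module of a Cohen–Macaulay scheme
-/

set_option autoImplicit false

universe u

open CategoryTheory Category Limits AlgebraicGeometry

attribute [local instance] HasDerivedCategory.standard

namespace K870.DualDepth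

open DCoh Groth.Agent
open Groth.Agent.Dual.H341

variable {X : Scheme.{u}}
    [∀ (U : Scheme.{u}) (j : U ⟶ X) [IsOpenImmersion j],
      PreservesFiniteLimits (Scheme.Modules.restrictFunctor j)]
    [∀ (R : CommRingCat.{u}), PreservesFiniteLimits (tilde.functor R)]
    {K : D X}

/-- The dimension of the support of the stalks of the dualizing module. -/
theorem supportDim_stalk_eq (hK : Dual2.IsDualizingSch X K) (c : ℤ)
    (hc : ∀ i : ℤ, i ≠ c → IsZero (HD K i)) (x : X) :
    Module.supportDim (X.presheaf.stalk x) ((HD K c).presheaf.stalk x) =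
      ringKrullDim (X.presheaf.stalk x) := by
  obtain ⟨R, j, hj, y, hy⟩ := Scheme.exists_Spec_apply_eq x
  change Spec (CommRingCat.of R) ⟶ X at j
  change PrimeSpectrum R at y
  obtain ⟨ω, hω, ⟨e⟩⟩ := hK R j
  have hsub : ∀ i : ℤ, i ≠ c → Subsingleton (Dual.HD R ω i) := by
    intro i hi
    rw [← Module.support_eq_empty_iff (R := R), Set.eq_empty_iff_forall_notMem]
    intro q hq
    have h1 := (PerfA.CohDim.mem_supp_iff K j ω e i q).2 hq
    have h2 : PerfC.Supp.supp K i = ∅ := (PerfC.Supp.supp_eq_empty_iff K i).2 (hc i hi)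
    rw [h2] at h1
    exact h1
  subst hy
  obtain ⟨σ, ε, hε⟩ := StalkTr.exists_semilinear K j ω e c y
  have h1 := Ega4A.DepthBasic.supportDim_congr_of_surjective σ.toRingHom σ.surjective _ _ ε hε
  have h2 : Module.support R (Dual.HD R ω c) = Set.univ :=
    Set.eq_univ_of_forall fun p => CMAlg.mem_support hω c hsub p
  rw [← ringKrullDim_eq_of_ringEquiv σ, ← h1,
    Ega4C.SupportLoc.supportDim_localizedModule_eq_height h2,
    ← IsLocalization.AtPrime.ringKrullDim_eq_height y.asIdeal (Localization.AtPrime y.asIdeal)]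

/-- The depth of the stalks of the dualizing module. -/
theorem depth_stalk_eq (hK : Dual2.IsDualizingSch X K) (c : ℤ)
    (hc : ∀ i : ℤ, i ≠ c → IsZero (HD K i)) (x : X) :
    ((LocCoh.depth (X.presheaf.stalk x) ((HD K c).presheaf.stalk x) : ℕ∞) : WithBot ℕ∞) =
      ringKrullDim (X.presheaf.stalk x) := by
  rw [← supportDim_stalk_eq hK c hc x]
  exact ((CMSch.stalk_of_concentrated hK c hc x).2).symm

variable [IsLocallyNoetherian X]

/-- The weakly associated points of the dualizing module are of codimension zero. -/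
theorem mem_of_isWeakAssPoint (hK : Dual2.IsDualizingSch X K) (c : ℤ)
    (hc : ∀ i : ℤ, i ≠ c → IsZero (HD K i)) (V : X.Opens) (hV : Dense (V : Set X)) (x : X)
    (hx : Curv2.IsWeakAssPoint (HD K c) x) : x ∈ V := by
  have hcoh := Ega1.DualSchBdd.isCohD_of_isDualizingSch hK c
  have := Divis.StalkMod.finite_stalk hcoh x
  have := (CMSch.stalk_of_concentrated hK c hc x).1
  rw [← Divis.WeakAss.isAssPoint_iff_isWeakAssPoint] at hx
  have h1 : ¬ (1 : ℕ∞) ≤ LocCoh.depth (X.presheaf.stalk x) ((HD K c).presheaf.stalk x) := by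
    rw [CalgA.DepthSmall.one_le_depth_iff_notMem_associatedPrimes]
    exact not_not.2 hx
  have h2 : LocCoh.depth (X.presheaf.stalk x) ((HD K c).presheaf.stalk x) = 0 := by
    rw [not_le, Order.lt_one_iff] at h1
    exact h1
  have h3 := depth_stalk_eq hK c hc x
  rw [h2] at h3
  exact GenPt.mem_of_dense_of_dim_le_zero X V hV x (by rw [← h3]; rfl)

/-- Sections of the dualizing module are determined on a dense open. -/
theorem restrict_injective (hK : Dual2.IsDualizingSch X K) (c : ℤ)
    (hc : ∀ i : ℤ, i ≠ c → IsZero (HD K i)) (V : X.Opens) (hV : Dense (V : Set X))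
    (W : X.Opens) :
    Function.Injective ((HD K c).presheaf.map (homOfLE (inf_le_left : W ⊓ V ≤ W)).op) := by
  have hcoh := Ega1.DualSchBdd.isCohD_of_isDualizingSch hK c
  refine Divis.WeakAss.restrict_injective (M := HD K c) hcoh.1 _ fun x hxW hx => ?_
  exact ⟨hxW, mem_of_isWeakAssPoint hK c hc V hV x hx⟩

end K870.DualDepth
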