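import Groth.Agent.Dual.H342.S2Alg
import Groth.Agent.CalgA.DepthSmall
import Groth.Agent.S2054

/-!
# Modules with `min 2 (dim R_p) ≤ depth M_p`: torsion, `(S_2)`, reflexivity
-/

set_option autoImplicit false

universe u v

open CategoryTheory

attribute [local instance] HasDerivedCategory.standard

namespace K870.LowMod

open Groth.Agent

section Alg

variable (R : Type u) [CommRing R] (M : Type u) [AddCommGroup M] [Module R M]

/-- Depth at least two in codimension two, in the sense of the dimension of the ring. -/
def Deep : Prop :=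
  ∀ (p : Ideal R) [p.IsPrime], min ((2 : ℕ) : WithBot ℕ∞) (ringKrullDim (Localization.AtPrime p)) ≤
    ((LocCoh.depth (Localization.AtPrime p) (LocalizedModule p.primeCompl M) : ℕ∞) : WithBot ℕ∞)

variable {R M}

theorem Deep.hasSk (h : Deep R M) : LocCoh.HasSk 2 R M := fun p _ =>
  (min_le_min le_rfl (Module.supportDim_le_ringKrullDim _ _)).trans (h p)

/-- Semilinear equivalence of localizations. -/
theorem exists_semilinear {A N : Type u} [CommRing A] [Algebra R A] (S : Submonoid R)
    [IsLocalization S A] [AddCommGroup N] [Module R N] [Module A N] [IsScalarTower R A N]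
    (g : M →ₗ[R] N) [IsLocalizedModule S g] :
    ∃ (σ : Localization S ≃+* A) (τ : LocalizedModule S M ≃+ N), ∀ r m, τ (r • m) = σ r • τ m := by
  let σ : Localization S ≃ₐ[R] A := IsLocalization.algEquiv S _ _
  let : Module (Localization S) N := Module.compHom _ (σ : Localization S →+* A)
  have : IsScalarTower R (Localization S) N :=
    IsScalarTower.of_algebraMap_smul (fun r m => by
      change σ (algebraMap R (Localization S) r) • m = r • m
      rw [σ.commutes, algebraMap_smul])
  let e₀ : LocalizedModule S M ≃ₗ[R] N := IsLocalizedModule.iso S g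
  let e₁ : LocalizedModule S M ≃ₗ[Localization S] N :=
    e₀.extendScalarsOfIsLocalization S (Localization S)
  exact ⟨σ.toRingEquiv, e₁.toAddEquiv, fun r m => e₁.map_smul r m⟩

/-- The condition passes to localizations at primes. -/
theorem Deep.localized (h : Deep R M) (p : Ideal R) [p.IsPrime] :
    Deep (Localization.AtPrime p) (LocalizedModule p.primeCompl M) := by
  intro q hq
  have h1 := h (q.comap (algebraMap R (Localization.AtPrime p)))
  rw [Ega4B.LocTransfer.depth_eq_of_isLocalization p.primeCompl
      (LocalizedModule.mkLinearMap p.primeCompl M) q]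
  refine le_trans (le_of_eq ?_) h1
  rw [IsLocalization.AtPrime.ringKrullDim_eq_height q (Localization.AtPrime q),
    IsLocalization.AtPrime.ringKrullDim_eq_height
      (q.comap (algebraMap R (Localization.AtPrime p))) (Localization.AtPrime _),
    IsLocalization.height_under p.primeCompl q]

variable [IsNoetherianRing R]

/-- The associated primes are minimal. -/
theorem Deep.mem_minimalPrimes [Module.Finite R M] (h : Deep R M) (p : Ideal R)
    (hp : p ∈ associatedPrimes R M) : p ∈ minimalPrimes R := by
  have hpr : p.IsPrime := hp.1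
  have h0 := Module.associatedPrimes.mem_associatedPrimes_atPrime_of_mem_associatedPrimes hp
  have hnt : Nontrivial (LocalizedModule p.primeCompl M) := by
    by_contra hs
    rw [not_nontrivial_iff_subsingleton] at hs
    rw [associatedPrimes.eq_empty_of_subsingleton] at h0
    exact h0
  have hN : IsNoetherianRing (Localization.AtPrime p) :=
    IsLocalization.isNoetherianRing p.primeCompl _ inferInstance
  have hfin : Module.Finite (Localization.AtPrime p) (LocalizedModule p.primeCompl M) :=
    Module.Finite.of_isLocalizedModule p.primeCompl (LocalizedModule.mkLinearMap p.primeCompl M)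
  have h1 : ¬ (1 : ℕ∞) ≤ LocCoh.depth (Localization.AtPrime p)
      (LocalizedModule p.primeCompl M) := by
    rw [CalgA.DepthSmall.one_le_depth_iff_notMem_associatedPrimes, not_not]
    exact h0
  have h2 : LocCoh.depth (Localization.AtPrime p) (LocalizedModule p.primeCompl M) = 0 := by
    rw [not_le, Order.lt_one_iff] at h1
    exact h1
  have h3 := h p
  rw [h2, IsLocalization.AtPrime.ringKrullDim_eq_height p (Localization.AtPrime p)] at h3
  have h4 : p.height = 0 := by
    rcases min_le_iff.1 h3 with h5 | h5
    · exact absurd (WithBot.coe_le_coe.1 h5) (by decide)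
    · exact nonpos_iff_eq_zero.1 (WithBot.coe_le_coe.1 h5)
  rwa [Ideal.height_eq_zero_iff] at h4

theorem Deep.not_smul_eq_zero [Module.Finite R M] (h : Deep R M) (a : R) (m : M) (hm : m ≠ 0)
    (ham : a • m = 0) : ∃ p ∈ minimalPrimes R, a ∈ p := by
  have h1 : a ∈ ⋃ p ∈ associatedPrimes R M, (p : Set R) := by
    rw [biUnion_associatedPrimes_eq_zero_divisors]
    exact ⟨m, hm, ham⟩
  obtain ⟨p, hp, hap⟩ := Set.mem_iUnion₂.1 h1
  exact ⟨p, h.mem_minimalPrimes p hp, hap⟩

/-- Such modules are torsion-free. -/
theorem Deep.torsion_eq_bot [Module.Finite R M] (h : Deep R M) : Submodule.torsion R M = ⊥ := by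
  rw [eq_bot_iff]
  intro m hm
  rw [Submodule.mem_torsion_iff] at hm
  obtain ⟨a, ha⟩ := hm
  rw [Submodule.mem_bot]
  by_contra hne
  obtain ⟨p, hp, hap⟩ := h.not_smul_eq_zero a.1 m hne ha
  have hpr : p.IsPrime := hp.1.1
  have h2 : p ∈ associatedPrimes R R := by
    refine Module.associatedPrimes.minimalPrimes_annihilator_subset_associatedPrimes R R ?_
    rw [Module.annihilator_eq_bot.mpr inferInstance]
    exact hp
  have h3 : a.1 ∈ ⋃ p ∈ associatedPrimes R R, (p : Set R) := Set.mem_iUnion₂.2 ⟨p, h2, hap⟩
  rw [biUnion_associatedPrimes_eq_compl_nonZeroDivisors] at h3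
  exact h3 a.2

theorem Deep.noZeroSMulDivisors [IsDomain R] [Module.Finite R M] (h : Deep R M) :
    NoZeroSMulDivisors R M := by
  refine ⟨fun {a m} ham => ?_⟩
  by_contra hcon
  rw [not_or] at hcon
  obtain ⟨p, hp, hap⟩ := h.not_smul_eq_zero a m hcon.2 ham
  rw [IsDomain.minimalPrimes_eq_singleton_bot, Set.mem_singleton_iff] at hp
  subst hp
  exact hcon.1 hap

/-- Reflexivity is local. -/
theorem isReflexive_of_localized [Module.Finite R M]
    (h : ∀ (p : Ideal R) [p.IsPrime],
      Module.IsReflexive (Localization.AtPrime p) (LocalizedModule p.primeCompl M)) :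
    Module.IsReflexive R M := by
  refine ⟨bijective_of_localized_maximal _ fun p hp => ?_⟩
  have := h p
  exact S2054.bijective_map_eval p

/-- Such modules over normal rings are reflexive. -/
theorem Deep.isReflexive [Module.Finite R M] (h : Deep R M)
    (hn : ∀ (p : Ideal R) [p.IsPrime], IsDomain (Localization.AtPrime p) ∧
      IsIntegrallyClosed (Localization.AtPrime p)) : Module.IsReflexive R M := by
  refine isReflexive_of_localized fun p hp => ?_
  obtain ⟨h1, h2⟩ := hn p
  have h3 : IsNoetherianRing (Localization.AtPrime p) :=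
    IsLocalization.isNoetherianRing p.primeCompl _ inferInstance
  have h4 : Module.Finite (Localization.AtPrime p) (LocalizedModule p.primeCompl M) :=
    Module.Finite.of_isLocalizedModule p.primeCompl (LocalizedModule.mkLinearMap p.primeCompl M)
  exact S2054.result.2 ⟨(h.localized p).noZeroSMulDivisors, (h.localized p).hasSk⟩

end Alg

end K870.LowMod
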