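import Groth.Agent.RatSing.K870.LowMod
import Groth.Agent.Dual.H342.NormSch
import Groth.Agent.Divis.StalkMod
import Groth.Agent.Ega4A.DepthBasic
import Groth.Prelude.Def_Pi1

/-!
# The lowest cohomology sheaf of a dualizing complex normalized at closed points
-/

set_option autoImplicit false

universe u v

open CategoryTheory CategoryTheory.Limits AlgebraicGeometry TopologicalSpace Opposite

attribute [local instance] HasDerivedCategory.standard

namespace K870.LowSch

open Groth.Agent Groth.Agent.CalgB.DzData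

section Alg

variable {A : Type u} [CommRing A] [IsNoetherianRing A] {ω : Dual.D A} {δ : PrimeSpectrum A → ℤ}

/-- The depth of the stalk of the lowest cohomology module `H^c(ω)` at `P`. -/
theorem min_le_depth_lowest (hω : Dual.IsDualizing A ω) (h : IsDelta ω δ) (c : ℤ)
    (hzero : ∀ i : ℤ, i < c → IsZero
      ((DerivedCategory.homologyFunctor (ModuleCat.{u} A) i).obj ω))
    (P : PrimeSpectrum A) (hP : ∀ q : PrimeSpectrum A, q ≤ P → δ q ≤ -c) :
    min ((2 : ℕ) : WithBot ℕ∞) (ringKrullDim (Localization.AtPrime P.asIdeal)) ≤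
    ((LocCoh.depth (Localization.AtPrime P.asIdeal)
      (LocalizedModule P.asIdeal.primeCompl (Dual.HD A ω c)) : ℕ∞) : WithBot ℕ∞) := by
  obtain ⟨n, hn'⟩ : ∃ n : ℕ, δ P + n = -c :=
    ⟨(-c - δ P).toNat, by have := hP P le_rfl; omega⟩
  have hfin : Module.Finite A (Dual.HD A ω c) := hω.finite_cohomology _
  have hdim : ringKrullDim (Localization.AtPrime P.asIdeal) ≤ n := by
    have h1 : Module.supportDim (Localization.AtPrime P.asIdeal)
        (LocalizedModule P.asIdeal.primeCompl A) ≤ n :=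
      h.supportDim_le P A n (fun q _ hq => by have := hP q hq; omega)
    have e0 := IsLocalizedModule.linearEquiv P.asIdeal.primeCompl
      (LocalizedModule.mkLinearMap P.asIdeal.primeCompl A)
      (Algebra.linearMap A (Localization.AtPrime P.asIdeal))
    have e : LocalizedModule P.asIdeal.primeCompl A ≃ₗ[Localization.AtPrime P.asIdeal]
        Localization.AtPrime P.asIdeal :=
      LinearEquiv.extendScalarsOfIsLocalization P.asIdeal.primeCompl
        (Localization.AtPrime P.asIdeal) e0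
    rwa [Module.supportDim_eq_of_equiv e, Module.supportDim_self_eq_ringKrullDim] at h1
  have hωGE : ω.IsGE c := by
    rw [DerivedCategory.isGE_iff]
    exact hzero
  obtain ⟨a, b, hab⟩ := hω.finite_injective_dimension
  have hωLE : ω.IsLE b := by
    rw [DerivedCategory.isLE_iff]
    intro j hj
    exact LoccohB.InjRep.isZero_homology_of_subsingleton ω j (hab A j (Or.inr hj))
  have key : ((min 2 n : ℕ) : ℕ∞) ≤ LocCoh.depth (Localization.AtPrime P.asIdeal)
      (LocalizedModule P.asIdeal.primeCompl (Dual.HD A ω c)) := by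
    rw [h.natCast_le_depth_iff P]
    intro e he
    have he2 : e < 2 := lt_of_lt_of_le he (min_le_left _ _)
    have hen : e < n := lt_of_lt_of_le he (min_le_right _ _)
    have hvan : ∀ (M : Type u) [AddCommGroup M] [Module A M] [Module.Finite A M] (i : ℤ),
        -δ P < i → LoccohA.DzExact.VanAt A P.asIdeal (LoccohA.DExt.E ω i M) := by
      intro M _ _ _ i hi
      rw [LoccohA.DzDim.vanAt_iff_subsingleton]
      exact Module.notMem_support_iff.mp (h.notMem_of_gt P M i hi)
    have h1 := LoccohA.DzTrunc2.extract (LoccohA.DzExact.closed_vanAt.{u, u + 1} A P.asIdeal) ω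
      ((n : ℤ) - e) c b c ω
      ((LoccohA.DzExact.closed_vanAt.{u, u + 1} A P.asIdeal).zero _
        (hω.ext_self_subsingleton _ (by omega)))
      (fun i hi => by
        have := hω.finite_cohomology i
        exact hvan (Dual.HD A ω i) _ (by omega))
      (fun i hi => LoccohA.DzTrunc2.P_of_isZero
        (LoccohA.DzExact.closed_vanAt.{u, u + 1} A P.asIdeal) ω i _ ω (hzero i hi))
    have e1 : (n : ℤ) - e + c = -δ P - e := by omega
    rw [e1] at h1
    rw [Module.notMem_support_iff]
    exact LoccohA.DzDim.vanAt_iff_subsingleton.mp h1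
  calc min ((2 : ℕ) : WithBot ℕ∞) (ringKrullDim (Localization.AtPrime P.asIdeal))
      ≤ min ((2 : ℕ) : WithBot ℕ∞) (n : WithBot ℕ∞) := min_le_min le_rfl hdim
    _ ≤ ((((min 2 n : ℕ) : ℕ∞)) : WithBot ℕ∞) := by
        rcases le_total 2 n with h2 | h2
        · rw [min_eq_left h2]; exact min_le_left _ _
        · rw [min_eq_right h2]; exact min_le_right _ _
    _ ≤ _ := WithBot.coe_le_coe.mpr key

end Alg

variable {X : Scheme.{u}} {K : DCoh.D X}

open Groth.Agent.PerfC.Supp Groth.Agent.PerfA.CohDim Groth.Agent.Dual.H342.PtChart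

/-- The dimension function is bounded by the lowest degree. -/
theorem delta_le {z : X} (c : Chart K z) (d : ℤ) (hlow : ∀ i : ℤ, i < -d → IsZero (DCoh.HD K i))
    (r : PrimeSpectrum c.A) : c.δ r ≤ d := by
  obtain ⟨q, hq, hqr⟩ := Ideal.exists_minimalPrimes_le (I := (⊥ : Ideal c.A)) (J := r.asIdeal)
    bot_le
  have hqp : q.IsPrime := hq.1.1
  let q' : PrimeSpectrum c.A := ⟨q, hqp⟩
  have h1 : c.δ r ≤ c.δ q' := LoccohA.DimFun.le_of_le c.isDelta.cov hqr
  refine h1.trans ?_
  have h2 : q'.asIdeal ∈ associatedPrimes c.A c.A := by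
    refine Module.associatedPrimes.minimalPrimes_annihilator_subset_associatedPrimes c.A c.A ?_
    rw [Module.annihilator_eq_bot.mpr inferInstance]
    exact hq
  have h3 := c.isDelta.mem_of_mem_associatedPrimes q' c.A h2
  rw [← support_HD, ← c.mem_supp_iff] at h3
  by_contra hlt
  rw [(supp_eq_empty_iff K _).2 (hlow (-c.δ q') (by omega))] at h3
  exact h3

/-- The depth of the stalks of the lowest cohomology sheaf. -/
theorem min_le_depth_stalk [CompactSpace X] (hK : Hyp K) (d : ℤ)
    (hlow : ∀ i : ℤ, i < -d → IsZero (DCoh.HD K i)) (x : X) :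
    min ((2 : ℕ) : WithBot ℕ∞) (ringKrullDim (X.presheaf.stalk x)) ≤
    ((LocCoh.depth (X.presheaf.stalk x) ((DCoh.HD K (-d)).presheaf.stalk x) : ℕ∞) :
      WithBot ℕ∞) := by
  obtain ⟨z, hz, hxz⟩ := PerfA.TopDim.exists_closed_specializes x
  obtain ⟨c⟩ := nonempty_chart hK z hz
  obtain ⟨q, hqy, hqx⟩ := c.exists_prime x hxz
  subst hqx
  obtain ⟨σ, τ, h⟩ := c.exists_semilinear (-d) q
  have h1 := Ega4A.DepthBasic.depth_congr_of_surjective σ.toRingHom σ.surjective _ _ τ h
  rw [← h1, ← ringKrullDim_eq_of_ringEquiv σ]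
  refine min_le_depth_lowest c.dual c.isDelta _ (fun i hi => ?_) q (fun r hr => ?_)
  · exact c.isZero_homology i (hlow i hi)
  · rw [neg_neg]
    exact delta_le c d hlow r

/-- From stalks to sections over an affine open. -/
theorem deep_sections {M : X.Modules} (hM : Coh.IsQCoh M)
    (h : ∀ x : X, min ((2 : ℕ) : WithBot ℕ∞) (ringKrullDim (X.presheaf.stalk x)) ≤
      ((LocCoh.depth (X.presheaf.stalk x) (M.presheaf.stalk x) : ℕ∞) : WithBot ℕ∞))
    {U : X.Opens} (hU : IsAffineOpen U) : LowMod.Deep Γ(X, U) Γ(M, U) := by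
  intro p hp
  let y : PrimeSpectrum Γ(X, U) := ⟨p, hp⟩
  obtain ⟨x, hx, hxy⟩ : ∃ (x : X) (hx : x ∈ U), (hU.primeIdealOf ⟨x, hx⟩) = y := by
    have h1 : hU.fromSpec (show Spec Γ(X, U) from y) ∈ U := by
      have h2 : hU.fromSpec (show Spec Γ(X, U) from y) ∈ Set.range hU.fromSpec := ⟨_, rfl⟩
      rwa [hU.range_fromSpec] at h2
    refine ⟨hU.fromSpec (show Spec Γ(X, U) from y), h1, ?_⟩
    apply hU.fromSpec.isOpenEmbedding.injective
    exact hU.fromSpec_primeIdealOf ⟨_, h1⟩
  have hp' : p = (hU.primeIdealOf ⟨x, hx⟩).asIdeal := by rw [hxy]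
  subst hp'
  refine Divis.StalkMod.stalk_elim M hM hU x hx ?_
  intro _ _ _ _ l _ _ _
  obtain ⟨σ, τ, hστ⟩ := LowMod.exists_semilinear
    (hU.primeIdealOf ⟨x, hx⟩).asIdeal.primeCompl (A := X.presheaf.stalk x) l
  have h1 := Ega4A.DepthBasic.depth_congr_of_surjective σ.toRingHom σ.surjective _ _ τ hστ
  exact (le_of_eq (by rw [ringKrullDim_eq_of_ringEquiv σ])).trans ((h x).trans
    (le_of_eq (by rw [h1])))

/-- Localizations of the sections over an affine open of a normal scheme. -/
theorem normal_localization (hn : Pi1.IsNormalScheme X) {U : X.Opens} (hU : IsAffineOpen U)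
    (p : Ideal Γ(X, U)) [hp : p.IsPrime] :
    IsDomain (Localization.AtPrime p) ∧ IsIntegrallyClosed (Localization.AtPrime p) := by
  let y : PrimeSpectrum Γ(X, U) := ⟨p, hp⟩
  obtain ⟨x, hx, hxy⟩ : ∃ (x : X) (hx : x ∈ U), (hU.primeIdealOf ⟨x, hx⟩) = y := by
    have h1 : hU.fromSpec (show Spec Γ(X, U) from y) ∈ U := by
      have h2 : hU.fromSpec (show Spec Γ(X, U) from y) ∈ Set.range hU.fromSpec := ⟨_, rfl⟩
      rwa [hU.range_fromSpec] at h2
    refine ⟨hU.fromSpec (show Spec Γ(X, U) from y), h1, ?_⟩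
    apply hU.fromSpec.isOpenEmbedding.injective
    exact hU.fromSpec_primeIdealOf ⟨_, h1⟩
  have hp' : p = (hU.primeIdealOf ⟨x, hx⟩).asIdeal := by rw [hxy]
  subst hp'
  let := TopCat.Presheaf.algebra_section_stalk X.presheaf ⟨x, hx⟩
  have h1 : IsLocalization.AtPrime (X.presheaf.stalk x) (hU.primeIdealOf ⟨x, hx⟩).asIdeal :=
    hU.isLocalization_stalk ⟨x, hx⟩
  obtain ⟨h2, h3⟩ := hn x
  let σ : Localization.AtPrime (hU.primeIdealOf ⟨x, hx⟩).asIdeal ≃ₐ[Γ(X, U)]
      X.presheaf.stalk x := IsLocalization.algEquiv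
        (hU.primeIdealOf ⟨x, hx⟩).asIdeal.primeCompl _ _
  exact ⟨σ.toRingEquiv.toMulEquiv.isDomain _, IsIntegrallyClosed.of_equiv σ.toRingEquiv.symm⟩

end K870.LowSch
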