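import Groth.Agent.S2280
import Groth.Agent.S2102
import Mathlib.AlgebraicGeometry.Morphisms.FiniteType
import Mathlib.AlgebraicGeometry.Limits

/-!
# Descent of normality along `O_X = f_* O_X'`
-/

set_option autoImplicit false
universe u
open CategoryTheory CategoryTheory.Limits AlgebraicGeometry TopologicalSpace

namespace K870.NormDesc

theorem connectedSpace_of_isDomain (X : Scheme.{u}) [Nonempty X] (h : IsDomain Γ(X, ⊤)) :
    ConnectedSpace X := by
  rw [connectedSpace_iff_clopen]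
  refine ⟨inferInstance, fun Z hZ => ?_⟩
  by_contra! H
  let U : X.Opens := ⟨Z, hZ.2⟩
  let V : X.Opens := ⟨Zᶜ, hZ.1.isOpen_compl⟩
  have hU : Nonempty U := by
    obtain ⟨x, hx⟩ := H.1
    exact ⟨⟨x, hx⟩⟩
  have hV : Nonempty V := by
    obtain ⟨x, hx⟩ := Set.nonempty_compl.mpr H.2
    exact ⟨⟨x, hx⟩⟩
  have hUV : U ⊓ V = ⊥ := by
    ext x
    simp [U, V]
  have hUV' : U ⊔ V = ⊤ := by
    ext x
    simp [U, V]
  let e : Γ(X, U ⊔ V) ≅ CommRingCat.of _ :=
    (X.sheaf.isProductOfDisjoint U V hUV).conePointUniqueUpToIso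
      (CommRingCat.prodFanIsLimit _ _)
  have hd : IsDomain Γ(X, U ⊔ V) := by rw [hUV']; exact h
  have : IsDomain (Γ(X, U) × Γ(X, V)) :=
      e.symm.commRingCatIsoToRingEquiv.toMulEquiv.isDomain _
  exact false_of_nontrivial_of_product_domain Γ(X, U) Γ(X, V)

/-- Let `f : X' ⟶ X` be a morphism of locally Noetherian schemes with `X` integral, `X'` normal and
`Γ(V, O_X) → Γ(f⁻¹V, O_X')` bijective for all open `V`. Then `X` is normal. -/
theorem isNormalScheme_of_app_isIso {X Xt : Scheme.{u}} [IsIntegral X] [IsLocallyNoetherian Xt]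
    (f : Xt ⟶ X) [Nonempty Xt] (hfib : ∀ V : X.Opens, IsIso (f.app V))
    (hXt : Pi1.IsNormalScheme Xt) : Pi1.IsNormalScheme X := by
  have hdom : IsDomain Γ(Xt, ⊤) := by
    have h1 : IsDomain Γ(X, ⊤) := inferInstance
    have h2 := hfib ⊤
    exact (asIso (f.app ⊤)).symm.commRingCatIsoToRingEquiv.toMulEquiv.isDomain _
  have hconn := connectedSpace_of_isDomain Xt hdom
  have hint : IsIntegral Xt := (Groth.Agent.S2280.result Xt).2.2 ⟨hconn, fun x => (hXt x).1⟩
  intro x
  refine ⟨inferInstance, ?_⟩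
  obtain ⟨V, hV, hxV, -⟩ := exists_isAffineOpen_mem_and_subset (U := (⊤ : X.Opens)) (x := x) trivial
  have hVne : Nonempty V := ⟨⟨x, hxV⟩⟩
  have hne : Nonempty (f ⁻¹ᵁ V : Xt.Opens) := by
    by_contra h
    rw [not_nonempty_iff] at h
    have h1 : Subsingleton Γ(Xt, f ⁻¹ᵁ V) := by
      have h2 : f ⁻¹ᵁ V = ⊥ := by
        ext z
        constructor
        · intro hz
          exact (h.false ⟨z, hz⟩).elim
        · intro hz
          exact hz.elim
      rw [h2]
      infer_instance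
    have h2 : Nontrivial Γ(X, V) := inferInstance
    have h3 := hfib V
    exact not_subsingleton Γ(X, V) ((asIso (f.app V)).commRingCatIsoToRingEquiv.injective.subsingleton)
  have hne' : Nonempty ((f ⁻¹ᵁ V : Xt.Opens) : Scheme.{u}) := hne
  have hintV : IsIntegral ((f ⁻¹ᵁ V : Xt.Opens) : Scheme.{u}) :=
    isIntegral_of_isOpenImmersion (f ⁻¹ᵁ V).ι
  have hnorm : Pi1.IsNormalScheme ((f ⁻¹ᵁ V : Xt.Opens) : Scheme.{u}) := by
    intro z
    have e := asIso ((f ⁻¹ᵁ V).ι.stalkMap z)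
    have h1 := hXt ((f ⁻¹ᵁ V).ι z)
    have h3 := h1.1
    have h4 := h1.2
    exact ⟨e.symm.commRingCatIsoToRingEquiv.toMulEquiv.isDomain _,
      .of_equiv e.commRingCatIsoToRingEquiv⟩
  have hcl := Groth.Agent.S2102.result _ hnorm
  have hclV : IsIntegrallyClosed Γ(X, V) := by
    have h3 := hfib V
    have e1 := (asIso (f.app V)).commRingCatIsoToRingEquiv
    have e2 := ((f ⁻¹ᵁ V).topIso).commRingCatIsoToRingEquiv
    exact .of_equiv (e2.trans e1.symm)
  let _ := TopCat.Presheaf.algebra_section_stalk X.presheaf ⟨x, hxV⟩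
  have hloc := hV.isLocalization_stalk ⟨x, hxV⟩
  exact isIntegrallyClosed_of_isLocalization (R := Γ(X, V)) (S := X.presheaf.stalk x)
    (hV.primeIdealOf ⟨x, hxV⟩).asIdeal.primeCompl
    (Ideal.primeCompl_le_nonZeroDivisors _)

end K870.NormDesc
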