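import Groth.Agent.RatSing.K870.SectAbs
import Groth.Agent.RatSing.K870.EtaIff

/-!
# `O_Y ⟶ Rf_* O_X` splits if the unit `K ⟶ Rf_* Lf^* K` does, for `K` dualizing
-/

set_option autoImplicit false

universe u

open CategoryTheory Category Limits AlgebraicGeometry

attribute [local instance] HasDerivedCategory.standard

namespace K870.Sect

open DCoh Groth.Agent Groth.Agent.PerfC.DTens Groth.Agent.PerfC.LpullTens
  Groth.Agent.Ega1.ADualUniv Groth.Agent.Dcoh.DerPull Groth.Agent.PerfC.RHomD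

variable {X Y : Scheme.{u}}

/-- `O ⊗ - ≅ id`. -/
noncomputable def unitTensNat {I : D Y} (e : I ≅ inD Y (Coh.structureModule Y)) :
    (LTX Y).obj I ≅ 𝟭 (D Y) :=
  (LTX Y).mapIso (e ≪≫ ((DerivedCategory.singleFunctorIsoCompQ Y.Modules 0).app
    (Coh.structureModule Y))) ≪≫ Dual.H360.ProjAff.unitIsoL Y

/-- `- ⊗ O ≅ id`. -/
noncomputable def unitTensNat' {I : D Y} (e : I ≅ inD Y (Coh.structureModule Y)) :
    (LTX Y).flip.obj I ≅ 𝟭 (D Y) :=
  (LTX Y).flip.mapIso (e ≪≫ ((DerivedCategory.singleFunctorIsoCompQ Y.Modules 0).app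
    (Coh.structureModule Y))) ≪≫ unitIso Y

/-- `RHom(O, K) ≅ K`. -/
noncomputable def rhUnit {I : D Y} (e : I ≅ inD Y (Coh.structureModule Y)) (K : D Y) :
    (RH I).obj K ≅ K :=
  (((rhAdj I).ofNatIsoLeft (unitTensNat' e)).rightAdjointUniq Adjunction.id).app K

variable [IsLocallyNoetherian Y]
  [∀ (U : Scheme.{u}) (j : U ⟶ Y) [IsOpenImmersion j],
    PreservesFiniteLimits (Scheme.Modules.restrictFunctor j)]
  [∀ (R : CommRingCat.{u}), PreservesFiniteLimits (tilde.functor R)]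

/-- `RHom(K, K) ≅ O`. -/
theorem nonempty_rh_self {K : D Y} (hK : Dual2.IsDualizingSch Y K) {I : D Y}
    (e : I ≅ inD Y (Coh.structureModule Y)) : Nonempty ((RH K).obj K ≅ I) := by
  have h1 : IsCohD I := PerfA.QCohD.isCohD_of_iso e.symm
    (PerfA.QCohD.isCohD_inD _ (Fdesc.StructMod.isCoh_structureModule Y))
  obtain ⟨γ⟩ := LoccohB.BiGlobal.nonempty_bidual hK h1
  exact ⟨rhIso (rhUnit e K) K ≪≫ γ⟩

variable (f : X ⟶ Y) [HasRpush f] [HasLpull f]

/-- `O_Y ⟶ Rf_* O_X` splits if the unit `K ⟶ Rf_* Lf^* K` does, for `K` dualizing. -/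
theorem exists_retraction {K : D Y} (hK : Dual2.IsDualizingSch Y K) {I : D Y}
    (eI : I ≅ inD Y (Coh.structureModule Y))
    {I' : D X} (eI' : I' ≅ inD X (Coh.structureModule X))
    (e : (Lpull f).obj I ≅ I') (η : I ⟶ (Rpush f).obj I')
    (hη : η = (lpullAdj f).unit.app I ≫ (Rpush f).map e.hom)
    (r : (Rpush f).obj ((Lpull f).obj K) ⟶ K) (hr : (lpullAdj f).unit.app K ≫ r = 𝟙 K) :
    ∃ η' : (Rpush f).obj I' ⟶ I, η ≫ η' = 𝟙 I := by
  obtain ⟨γ⟩ := nonempty_rh_self hK eI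
  obtain ⟨m, hm⟩ := SectAbs.exists_extension (lpullAdj f) (lpullTens f).hom K e
    ((unitTensNat eI).app K) (Eta.unitTens eI' ((Lpull f).obj K)) η hη
    (inferInstanceAs (IsIso (((lpullTens f).hom.app I).app K))) r hr
  exact SectAbs.exists_retraction_of_extension (rhAdj K) (unitTensNat eI) γ η m hm

end K870.Sect
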