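import Groth.Agent.RatSing.K870.ThetaAbs

/-!
# Splitting the unit from a splitting on a dualizing object (formal part)
-/

set_option autoImplicit false

universe v₁ v₂ u₁ u₂

open CategoryTheory Category

namespace K870.SectAbs

section Dual

variable {D : Type u₁} [Category.{v₁} D] {T : D ⥤ D ⥤ D} {I K : D} {H : D ⥤ D}
  (adj : T.flip.obj K ⊣ H) (l : T.obj I ≅ 𝟭 D) (γ : H.obj K ≅ I)

/-- The action of `End I` on `K`. -/
def act (b : I ⟶ I) : K ⟶ K := l.inv.app K ≫ (T.map b).app K ≫ l.hom.app K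

lemma map_app_hom (b : I ⟶ I) : (T.map b).app K ≫ l.hom.app K = l.hom.app K ≫ act l b := by
  have h : l.hom.app K ≫ l.inv.app K = 𝟙 _ := l.hom_inv_id_app K
  unfold act
  erw [reassoc_of% h]
  rfl

lemma act_comp (b c : I ⟶ I) : act (K := K) l (b ≫ c) = act l b ≫ act l c := by
  have h : l.hom.app K ≫ l.inv.app K = 𝟙 _ := l.hom_inv_id_app K
  simp only [act, T.map_comp, NatTrans.comp_app, assoc]
  rw [reassoc_of% h]

lemma act_id : act (K := K) l (𝟙 I) = 𝟙 K := by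
  have h : l.inv.app K ≫ l.hom.app K = 𝟙 _ := l.inv_hom_id_app K
  unfold act
  rw [T.map_id]
  erw [id_comp, h]
  rfl

lemma act_comm (b : I ⟶ I) (g : K ⟶ K) : act l b ≫ g = g ≫ act l b := by
  unfold act
  have h1 := l.hom.naturality g
  have h2 := l.inv.naturality g
  have h3 := (T.map b).naturality g
  simp only [Functor.id_map, Functor.id_obj] at h1 h2
  rw [assoc, assoc, ← h1, reassoc_of% h2, reassoc_of% h3]

include γ in
/-- The map `I ⟶ Hom(K, K)` corresponding to `I ⊗ K ≅ K` is an isomorphism if there is some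
isomorphism `Hom(K, K) ≅ I`. -/
theorem isIso_transpose : IsIso (adj.homEquiv I K (l.hom.app K)) := by
  let β : I ⟶ H.obj K := adj.homEquiv I K (l.hom.app K)
  let b : I ⟶ I := β ≫ γ.hom
  have hβ : β = b ≫ γ.inv := by simp [b]
  let g : (T.obj I).obj K ⟶ K := (adj.homEquiv I K).symm γ.inv
  obtain ⟨g', hg'⟩ : ∃ g' : K ⟶ K, l.hom.app K ≫ g' = g := by
    have h : l.hom.app K ≫ l.inv.app K = 𝟙 _ := l.hom_inv_id_app K
    refine ⟨l.inv.app K ≫ g, ?_⟩
    change l.hom.app K ≫ l.inv.app K ≫ g = g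
    rw [reassoc_of% h]
  -- every `c` gives the map `act c ≫ g'`
  have key : ∀ c : I ⟶ I, (adj.homEquiv I K).symm (c ≫ γ.inv) = l.hom.app K ≫ act l c ≫ g' := by
    intro c
    rw [adj.homEquiv_naturality_left_symm]
    change (T.map c).app K ≫ g = _
    rw [← hg', ← assoc, map_app_hom, assoc]
  have hinj : ∀ c c' : I ⟶ I, act l c ≫ g' = act l c' ≫ g' → c = c' := by
    intro c c' h
    have h1 : (adj.homEquiv I K).symm (c ≫ γ.inv) = (adj.homEquiv I K).symm (c' ≫ γ.inv) := by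
      rw [key, key, h]
    have h2 := (adj.homEquiv I K).symm.injective h1
    exact (cancel_mono γ.inv).1 h2
  have hsurj : ∀ k : K ⟶ K, ∃ c : I ⟶ I, act l c ≫ g' = k := by
    intro k
    refine ⟨adj.homEquiv I K (l.hom.app K ≫ k) ≫ γ.hom, ?_⟩
    have h1 := key (adj.homEquiv I K (l.hom.app K ≫ k) ≫ γ.hom)
    rw [assoc, Iso.hom_inv_id, comp_id, Equiv.symm_apply_apply] at h1
    exact ((cancel_epi (l.hom.app K)).1 h1).symm
  have h1 : act l b ≫ g' = 𝟙 K := by
    have h := key b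
    rw [← hβ] at h
    change (adj.homEquiv I K).symm (adj.homEquiv I K (l.hom.app K)) = _ at h
    rw [Equiv.symm_apply_apply] at h
    have h3 : l.hom.app K ≫ (act l b ≫ g') = l.hom.app K ≫ 𝟙 K := by
      rw [← h]
      exact (comp_id _).symm
    exact (cancel_epi (l.hom.app K)).1 h3
  have h2 : g' ≫ act l b = 𝟙 K := by rw [← act_comm, h1]
  obtain ⟨c, hc⟩ := hsurj (g' ≫ g')
  have hc' : act l c = g' := by
    have h4 : (act l c ≫ g') ≫ act l b = (g' ≫ g') ≫ act l b := by rw [hc]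
    rwa [assoc, assoc, h2, comp_id, comp_id] at h4
  have h5 : b ≫ c = 𝟙 I := by
    apply hinj
    rw [act_comp, hc', act_id, h1]
  have h6 : c ≫ b = 𝟙 I := by
    apply hinj
    rw [act_comp, hc', act_id, h2]
  have h7 : IsIso b := ⟨c, h5, h6⟩
  change IsIso β
  rw [hβ]
  infer_instance

include adj γ in
/-- A map `η : I ⟶ P` splits if `l : I ⊗ K ⟶ K` extends to `P ⊗ K`. -/
theorem exists_retraction_of_extension {P : D} (η : I ⟶ P) (m : (T.obj P).obj K ⟶ K)
    (hm : (T.map η).app K ≫ m = l.hom.app K) : ∃ η' : P ⟶ I, η ≫ η' = 𝟙 I := by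
  have h1 := isIso_transpose adj l γ
  refine ⟨adj.homEquiv P K m ≫ inv (adj.homEquiv I K (l.hom.app K)), ?_⟩
  have h2 : η ≫ adj.homEquiv P K m = adj.homEquiv I K (l.hom.app K) := by
    rw [← adj.homEquiv_naturality_left]
    exact congrArg _ hm
  rw [reassoc_of% h2, IsIso.hom_inv_id]

end Dual

section Unit

open Groth.Agent.PerfC.ProjMap

variable {D : Type u₁} [Category.{v₁} D] {E : Type u₂} [Category.{v₂} E]
  {T : D ⥤ D ⥤ D} {T' : E ⥤ E ⥤ E} {L : D ⥤ E} {R : E ⥤ D} (adj : L ⊣ R)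
  (M : T ⋙ (Functor.whiskeringRight _ _ _).obj L ⟶ L ⋙ T' ⋙ (Functor.whiskeringLeft _ _ _).obj L)
  {I : D} {I' : E} (K : D) (e : L.obj I ≅ I')

/-- If the unit at `K` splits, then `I ⊗ K ≅ K` extends to `R I' ⊗ K`. -/
theorem exists_extension (l : (T.obj I).obj K ≅ K) (l' : (T'.obj I').obj (L.obj K) ≅ L.obj K)
    (η : I ⟶ R.obj I') (hη : η = adj.unit.app I ≫ R.map e.hom)
    (hM : IsIso (Ma M I K)) (r : R.obj (L.obj K) ⟶ K) (hr : adj.unit.app K ≫ r = 𝟙 K) :
    ∃ m : (T.obj (R.obj I')).obj K ⟶ K, (T.map η).app K ≫ m = l.hom := by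
  have h1 := ThetaAbs.unit_eq adj M K l e l' hM
  rw [← hη] at h1
  refine ⟨(theta adj M I').app K ≫ R.map l'.hom ≫
    R.map (ThetaAbs.alpha M K l e l' hM).inv ≫ r, ?_⟩
  have h2 : l.inv ≫ (T.map η).app K ≫ (theta adj M I').app K ≫ R.map l'.hom ≫
      R.map (ThetaAbs.alpha M K l e l' hM).inv ≫ r = 𝟙 K := by
    rw [reassoc_of% h1, ← R.map_comp_assoc, Iso.hom_inv_id, R.map_id, id_comp, hr]
  rw [Iso.inv_comp_eq] at h2
  rw [h2, comp_id]

end Unit

end K870.SectAbs
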