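import Groth.Agent.Dual.H310.OpenBC

/-!
# The trace is an isomorphism where the morphism is
-/

set_option autoImplicit false

universe v₁ v₂ v₃ v₄ u₁ u₂ u₃ u₄ u

open CategoryTheory CategoryTheory.Limits

namespace K870.TraceOpen

section Formal

open Groth.Agent.PerfB.BCFormal

variable {S : Type u₁} [Category.{v₁} S] {T : Type u₂} [Category.{v₂} T]
  {S' : Type u₃} [Category.{v₃} S'] {T' : Type u₄} [Category.{v₄} T']
  {F : S ⥤ T} {G : T ⥤ S} (adj : F ⊣ G)
  {F' : S' ⥤ T'} {G' : T' ⥤ S'} (adj' : F' ⊣ G')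
  {P : S ⥤ S'} {P' : T ⥤ T'} (σ : F ⋙ P' ≅ P ⋙ F')

/-- If the base change map and the counit of the second adjunction are isomorphisms, then so is the
image of the counit of the first. -/
theorem isIso_map_counit (K : T) (h : IsIso (bc adj adj' σ K))
    (h' : IsIso (adj'.counit.app (P'.obj K))) : IsIso (P'.map (adj.counit.app K)) := by
  have h1 := trans_bc_self adj adj' σ K
  rw [Adjunction.homEquiv_counit] at h1
  have h2 : IsIso (σ.inv.app (G.obj K) ≫ P'.map (adj.counit.app K)) := by
    rw [← h1]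
    infer_instance
  exact IsIso.of_isIso_comp_left (σ.inv.app (G.obj K)) _

end Formal

open AlgebraicGeometry

attribute [local instance] HasDerivedCategory.standard

open Groth.Agent Groth.Agent.Dual.H310.OpenBC

variable {X Y : Scheme.{u}}

/-- A morphism of `D(O_X)` is an isomorphism if it is one on an open cover. -/
lemma isIso_of_restrictD {K L : DCoh.D X} (φ : K ⟶ L)
    (h : ∀ x : X, ∃ (U : Scheme.{u}) (j : U ⟶ X) (_ : IsOpenImmersion j) (y : U), j y = x ∧
      IsIso ((PerfA.Restrict.restrictD j).map φ)) : IsIso φ := by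
  rw [DerivedCategory.isIso_iff]
  intro i
  refine PerfA.Restrict.isIso_of_restrict _ fun x => ?_
  obtain ⟨U, j, hj, y, hy, hU⟩ := h x
  refine ⟨U, j, hj, y, hy, ?_⟩
  exact (NatIso.isIso_map_iff
    (PerfA.ExactD.mapHomology (Scheme.Modules.restrictFunctor j) i) φ).1
    (inferInstanceAs (IsIso ((DerivedCategory.homologyFunctor _ i).map
      ((PerfA.Restrict.restrictD j).map φ))))

/-- `Re_*` is an equivalence for an isomorphism `e`. -/
theorem isEquivalence_rpushQ (e : X ⟶ Y) [IsIso e] [DCoh.HasRpush e]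
    (h : DCoh.RpushPreservesQCoh e) : (DCoh.RpushQ e h).IsEquivalence := by
  have h1 : ∀ M : DCoh.DQCoh Y, IsIso ((openAdjQ e h).unit.app M) := by
    intro M
    have h2 : IsIso ((PerfB.OpenAdj.openAdj e).unit.app M.obj) := by
      refine isIso_of_restrictD _ fun y => ?_
      obtain ⟨x, hx⟩ := e.surjective y
      exact ⟨X, e, inferInstance, x, hx, PerfB.OpenAdj.isIso_restrictD_map_unit e M.obj⟩
    have h3 : IsIso ((ObjectProperty.ι (DCoh.IsQCohD (X := Y))).map
      ((openAdjQ e h).unit.app M)) := h2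
    exact isIso_of_reflects_iso _ (ObjectProperty.ι (DCoh.IsQCohD (X := Y)))
  have h4 : ∀ M : DCoh.DQCoh X, IsIso ((openAdjQ e h).counit.app M) := fun M => inferInstance
  exact (openAdjQ e h).toEquivalence.isEquivalence_inverse

/-- The trace `Rf_* a(K) ⟶ K` is an isomorphism over an open over which `f` is an isomorphism. -/
theorem isIso_restrictD_trace [IsNoetherian Y] (f : X ⟶ Y) [IsProper f] [DCoh.HasRpush f]
    (hf : DCoh.RpushPreservesQCoh f) {a : DCoh.DQCoh Y ⥤ DCoh.DQCoh X}
    (adj : DCoh.RpushQ f hf ⊣ a) (K : DCoh.DQCoh Y) (c : ℤ) (hK : K.obj.IsGE c)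
    (V : Y.Opens) [IsIso (f ∣_ V)] :
    IsIso ((PerfA.Restrict.restrictD V.ι).map (adj.counit.app K).hom) := by
  have : IsNoetherian X := isNoetherian_of_finiteType f
  have := Dcoh.DerSch.hasRpush (f ∣_ V)
  have hf' : DCoh.RpushPreservesQCoh (f ∣_ V) := preservesQCoh (f ∣_ V)
  have h1 := isEquivalence_rpushQ (f ∣_ V) hf'
  let E := (DCoh.RpushQ (f ∣_ V) hf').asEquivalence
  let adj' : DCoh.RpushQ (f ∣_ V) hf' ⊣ E.inverse := E.toAdjunction
  have h2 : ∀ M, IsIso (adj'.counit.app M) := fun M => by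
    change IsIso (E.counit.app M)
    infer_instance
  have sq := (isPullback_morphismRestrict f V).flip
  obtain ⟨σ⟩ := nonempty_rpushQRestrict sq hf hf'
  have h3 := isIso_bc sq.w hf hf' adj adj' σ K c hK
  have h4 : IsIso ((resQ V.ι).map (adj.counit.app K)) := isIso_map_counit adj adj' σ K h3 (h2 _)
  exact inferInstanceAs (IsIso ((ObjectProperty.ι (DCoh.IsQCohD (X := V.toScheme))).map
    ((resQ V.ι).map (adj.counit.app K))))

end K870.TraceOpen
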