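import Groth.Agent.RatSing.K870.DualDepth
import Groth.Agent.RatSing.K870.TraceOpen
import Groth.Agent.PerfC.RpushSingle
import Groth.Agent.PerfB.TildeExact
import Groth.Agent.S1810

/-!
# A section of the trace on the top cohomology gives a section of the trace
-/

set_option autoImplicit false

universe u

open CategoryTheory Category Limits AlgebraicGeometry

attribute [local instance] HasDerivedCategory.standard

namespace K870.SectTr

open DCoh Groth.Agent

variable {X Y : Scheme.{u}}

/-- A map of modules that is an isomorphism over an open is injective if sections of the source are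
determined over this open. -/
theorem mono_of_dense {F G : X.Modules} (φ : F ⟶ G) (V : X.Opens)
    (hV : IsIso ((Scheme.Modules.restrictFunctor V.ι).map φ))
    (hinj : ∀ U : X.Opens, Function.Injective
      (F.presheaf.map (homOfLE (inf_le_left : U ⊓ V ≤ U)).op)) : Mono φ := by
  refine PerfB.TildeExact.mono_of_app_injective φ fun U => ?_
  rw [injective_iff_map_eq_zero]
  intro s hs
  apply hinj U
  rw [map_zero]
  have h1 : IsIso (φ.app (V.ι ''ᵁ (V.ι ⁻¹ᵁ U))) :=
    inferInstanceAs (IsIso (((Scheme.Modules.restrictFunctor V.ι).map φ).app (V.ι ⁻¹ᵁ U)))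
  have h2 : V.ι ''ᵁ (V.ι ⁻¹ᵁ U) = U ⊓ V := by
    rw [Scheme.Hom.image_preimage_eq_opensRange_inf, Scheme.Opens.opensRange_ι, inf_comm]
  rw [h2] at h1
  have h3 : Function.Injective (φ.app (U ⊓ V)) :=
    ((asIso (φ.app (U ⊓ V))).addCommGroupIsoToAddEquiv).injective
  apply h3
  rw [map_zero]
  have h4 := congrArg (fun t => t s)
    (congrArg AddCommGrpCat.Hom.hom (φ.mapPresheaf.naturality (homOfLE (inf_le_left : U ⊓ V ≤ U)).op))
  refine h4.trans ?_
  change G.presheaf.map _ (φ.app U s) = 0
  rw [hs, map_zero]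

section Push

variable (f : X ⟶ Y) [HasRpush f]

/-- `H^c(Rf_* L) ≅ f_* H^c(L)` for `L` concentrated in degree `c`. -/
theorem nonempty_iso_push (L : D X) (c : ℤ) (hL : ∀ i : ℤ, i ≠ c → IsZero (HD L i)) :
    Nonempty (HD ((Rpush f).obj L) c ≅ (Scheme.Modules.pushforward f).obj (HD L c)) := by
  have := PerfC.RpushTrunc.enoughInjectives X
  have : HasInjectiveResolutions X.Modules := inferInstance
  have h1 : L.IsGE c := by
    rw [DerivedCategory.isGE_iff]
    exact fun i hi => hL i hi.ne
  have h2 : L.IsLE c := by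
    rw [DerivedCategory.isLE_iff]
    exact fun i hi => hL i hi.ne'
  obtain ⟨eL⟩ := LoccohB.DCalc.exists_iso_single L c
  exact ⟨(DerivedCategory.homologyFunctor Y.Modules c).mapIso ((Rpush f).mapIso eL) ≪≫
    PerfC.RpushSingle.isoSingle f (HD L c) c c 0 (by omega) ≪≫
    PerfC.RpushSingle.iso f 0 (HD L c) ≪≫
    (Scheme.Modules.pushforward f).rightDerivedZeroIsoSelf.app (HD L c)⟩

omit [HasRpush f] in
/-- Sections of a module isomorphic to `f_* M` are determined over `V` if sections of `M` are
determined over `f⁻¹ V`. -/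
theorem restrict_injective_of_push {F : Y.Modules} {M : X.Modules}
    (e : F ≅ (Scheme.Modules.pushforward f).obj M) (V : Y.Opens)
    (h : ∀ W : X.Opens, Function.Injective
      (M.presheaf.map (homOfLE (inf_le_left : W ⊓ (f ⁻¹ᵁ V) ≤ W)).op)) (U : Y.Opens) :
    Function.Injective (F.presheaf.map (homOfLE (inf_le_left : U ⊓ V ≤ U)).op) := by
  have h1 := e.hom.mapPresheaf.naturality (homOfLE (inf_le_left : U ⊓ V ≤ U)).op
  have h2 : ∀ W, Function.Injective (e.hom.app W) := fun W =>
    ((asIso (e.hom.app W)).addCommGroupIsoToAddEquiv).injective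
  have h3 : Function.Injective (fun s => e.hom.app (U ⊓ V)
      (F.presheaf.map (homOfLE (inf_le_left : U ⊓ V ≤ U)).op s)) := by
    have h4 : (fun s => e.hom.app (U ⊓ V)
        (F.presheaf.map (homOfLE (inf_le_left : U ⊓ V ≤ U)).op s)) =
        fun s => M.presheaf.map (homOfLE (inf_le_left : (f ⁻¹ᵁ U) ⊓ (f ⁻¹ᵁ V) ≤ f ⁻¹ᵁ U)).op
          (e.hom.app U s) := by
      funext s
      exact congrArg (fun t => t s) (congrArg AddCommGrpCat.Hom.hom h1)
    rw [h4]
    exact (h (f ⁻¹ᵁ U)).comp (h2 U)
  exact Function.Injective.of_comp h3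

end Push

section Main

variable (f : X ⟶ Y) [IsProper f] [IsNoetherian Y]
  [∀ (U : Scheme.{u}) (j : U ⟶ Y) [IsOpenImmersion j],
    PreservesFiniteLimits (Scheme.Modules.restrictFunctor j)]
  [∀ (R : CommRingCat.{u}), PreservesFiniteLimits (tilde.functor R)]
  [HasRpush f] (h : RpushPreservesQCoh f) {a : DQCoh Y ⥤ DQCoh X} (adj : RpushQ f h ⊣ a)

include adj in
/-- The trace for a dualizing complex on `Y` concentrated in one degree, `X` Cohen–Macaulay and `f`
an isomorphism over `V` with dense preimage: a surjection on the lowest cohomology gives a section. -/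
theorem exists_section (hcm : ∀ x : X, LocCoh.IsCohenMacaulayLocalRing (X.presheaf.stalk x))
    (V : Y.Opens) (hV : Dense ((f ⁻¹ᵁ V : X.Opens) : Set X)) [IsIso (f ∣_ V)]
    (K : DQCoh Y) (hK : Dual2.IsDualizingSch Y K.obj) (c : ℤ)
    (hKc : ∀ i : ℤ, i ≠ c → IsZero (HD K.obj i))
    (hsurj : Epi ((DerivedCategory.homologyFunctor Y.Modules c).map (adj.counit.app K).hom)) :
    ∃ σ : K.obj ⟶ (Rpush f).obj (a.obj K).obj, σ ≫ (adj.counit.app K).hom = 𝟙 K.obj := by
  have : IsLocallyNoetherian X := LocallyOfFiniteType.isLocallyNoetherian f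
  have : ∀ (U : Scheme.{u}) (j : U ⟶ X) [IsOpenImmersion j],
      PreservesFiniteLimits (Scheme.Modules.restrictFunctor j) := fun U j _ => inferInstance
  have hge : K.obj.IsGE c := by
    rw [DerivedCategory.isGE_iff]
    exact fun i hi => hKc i hi.ne
  have hle : K.obj.IsLE c := by
    rw [DerivedCategory.isLE_iff]
    exact fun i hi => hKc i hi.ne'
  let L : DQCoh X := a.obj K
  let τ : (Rpush f).obj L.obj ⟶ K.obj := (adj.counit.app K).hom
  have hτ : IsIso ((PerfA.Restrict.restrictD V.ι).map τ) :=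
    TraceOpen.isIso_restrictD_trace f h adj K c hge V
  have hτi : ∀ i : ℤ, IsIso ((Scheme.Modules.restrictFunctor V.ι).map
      ((DerivedCategory.homologyFunctor Y.Modules i).map τ)) := by
    intro i
    exact (NatIso.isIso_map_iff
      (PerfA.ExactD.mapHomology (Scheme.Modules.restrictFunctor V.ι) i) τ).1
      (inferInstanceAs (IsIso ((DerivedCategory.homologyFunctor _ i).map
        ((PerfA.Restrict.restrictD V.ι).map τ))))
  have hL : Dual2.IsDualizingSch X L.obj := S1810.result X Y f h a adj K hK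
  have hLc : ∀ i : ℤ, i ≠ c → IsZero (HD L.obj i) := by
    refine DualDeg.isZero_HD_of_dense X L.obj hL hcm (f ⁻¹ᵁ V) hV c ?_
    intro i hi x hx
    obtain ⟨e⟩ := DualDeg.nonempty_stalk_iso f V L.obj i x hx
    have h1 : IsZero ((Scheme.Modules.restrictFunctor V.ι).obj (HD ((Rpush f).obj L.obj) i)) := by
      have := hτi i
      refine IsZero.of_iso ?_ (asIso ((Scheme.Modules.restrictFunctor V.ι).map
        ((DerivedCategory.homologyFunctor Y.Modules i).map τ)))
      exact Functor.map_isZero _ (hKc i hi)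
    have h2 := Dcoh.StalkMod.subsingleton_of_isZero h1 ⟨f x, hx⟩
    have h3 := ((PerfA.Restrict.stalkRestrict V.ι ⟨f x, hx⟩).app
      (HD ((Rpush f).obj L.obj) i)).symm.addCommGroupIsoToAddEquiv.toEquiv
    have h4 : Subsingleton ((HD ((Rpush f).obj L.obj) i).presheaf.stalk (f x)) :=
      @Equiv.subsingleton _ _ h3 h2
    exact e.symm.toEquiv.subsingleton
  have hLge : L.obj.IsGE c := by
    rw [DerivedCategory.isGE_iff]
    exact fun i hi => hLc i hi.ne
  have hRge : ((Rpush f).obj L.obj).IsGE c := PerfC.RpushTrunc.isGE_Rpush f L.obj c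
  have hmono : Mono ((DerivedCategory.homologyFunctor Y.Modules c).map τ) := by
    obtain ⟨e⟩ := nonempty_iso_push f L.obj c hLc
    exact mono_of_dense _ V (hτi c) (restrict_injective_of_push f e V
      (fun W => DualDepth.restrict_injective hL c hLc (f ⁻¹ᵁ V) hV W))
  have hiso : IsIso ((DerivedCategory.homologyFunctor Y.Modules c).map τ) :=
    isIso_of_mono_of_epi _
  obtain ⟨σ, hσ⟩ := LoccohB.DCalc.exists_hom c K.obj ((Rpush f).obj L.obj)
    (inv ((DerivedCategory.homologyFunctor Y.Modules c).map τ))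
  refine ⟨σ, ?_⟩
  apply (LoccohB.DCalc.homEquiv c K.obj K.obj).injective
  rw [LoccohB.DCalc.homEquiv_apply, LoccohB.DCalc.homEquiv_apply, Functor.map_comp, hσ,
    CategoryTheory.Functor.map_id]
  exact IsIso.inv_hom_id _

end Main

end K870.SectTr
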