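import Groth.Agent.Ega4dA.FibPair1
import Groth.Agent.Ega4C.FlatLocal
import Groth.Agent.Ega4A.RegCM
import Groth.Agent.CalgB.CMPoly
import Mathlib.AlgebraicGeometry.Morphisms.Smooth
import Mathlib.AlgebraicGeometry.Morphisms.UniversallyOpen
import Mathlib.AlgebraicGeometry.Morphisms.FlatDescent

/-!
# Smooth schemes over Cohen–Macaulay schemes; base change of isomorphisms over opens
-/

set_option autoImplicit false

universe u

open CategoryTheory CategoryTheory.Limits AlgebraicGeometry TopologicalSpace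

namespace K870.SmoothCM

open Groth.Agent

/-- A smooth scheme over a Cohen–Macaulay scheme is Cohen–Macaulay. -/
theorem cm_of_smooth {P W : Scheme.{u}} (p : P ⟶ W) [Smooth p] [IsLocallyNoetherian W]
    [IsLocallyNoetherian P] (x : P)
    (h : LocCoh.IsCohenMacaulayLocalRing (W.presheaf.stalk (p x))) :
    LocCoh.IsCohenMacaulayLocalRing (P.presheaf.stalk x) := by
  let _ : Algebra (W.presheaf.stalk (p x)) (P.presheaf.stalk x) := (p.stalkMap x).hom.toAlgebra
  have h1 : IsLocalHom (algebraMap (W.presheaf.stalk (p x)) (P.presheaf.stalk x)) :=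
    inferInstanceAs (IsLocalHom (p.stalkMap x).hom)
  have h2 : Module.Flat (W.presheaf.stalk (p x)) (P.presheaf.stalk x) := Flat.stalkMap p x
  rw [Ega4C.FlatLocal.isCM_iff (W.presheaf.stalk (p x)) (P.presheaf.stalk x)]
  refine ⟨h, ?_⟩
  have h3 := Ega4dA.FibPair1.isRegularLocalRing_fiberStalk p x
  have h4 := Ega4A.RegCM.isCohenMacaulayLocalRing_of_isRegularLocalRing (CInt.fiberStalk p x)
  exact CalgB.CMPoly.isCohenMacaulayLocalRing_of_ringEquiv
    (Ega4dB.FiberStalk.fiberStalkEquiv p x).symm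

section Pullback

variable {Z W P Q : Scheme.{u}} {φ : Z ⟶ W} {p : P ⟶ W} {q : Q ⟶ Z} {σ : Q ⟶ P}

theorem preimage_eq (w : q ≫ φ = σ ≫ p) (V : W.Opens) :
    σ ⁻¹ᵁ (p ⁻¹ᵁ V) = q ⁻¹ᵁ (φ ⁻¹ᵁ V) := by
  rw [← Scheme.Hom.comp_preimage, ← Scheme.Hom.comp_preimage, w]

/-- The base change of a morphism which is an isomorphism over `V` is one over the preimage. -/
theorem isIso_morphismRestrict (sq : IsPullback q σ φ p) (V : W.Opens) [IsIso (φ ∣_ V)] :
    IsIso (σ ∣_ (p ⁻¹ᵁ V)) := by
  have h1 := (isPullback_morphismRestrict σ (p ⁻¹ᵁ V)).flip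
  have h2 := h1.paste_horiz sq
  have h3 := (isPullback_morphismRestrict φ V).flip
  have h4 : (p ⁻¹ᵁ V).ι ≫ p = (p ∣_ V) ≫ V.ι := (morphismRestrict_ι p V).symm
  rw [h4] at h2
  have h5 := h2.of_right' h3
  exact h5.isIso_snd_of_isIso
  
/-- Preimages of dense opens under flat morphisms locally of finite presentation are dense. -/
theorem dense_preimage (q : Q ⟶ Z) [Flat q] [LocallyOfFinitePresentation q] (U : Z.Opens)
    (hU : Dense (U : Set Z)) : Dense ((q ⁻¹ᵁ U : Q.Opens) : Set Q) := by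
  have h1 : UniversallyOpen q := inferInstance
  have h : IsOpenMap q := Scheme.Hom.isOpenMap q
  exact hU.preimage h

end Pullback

end K870.SmoothCM
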