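import Groth.Agent.S1699
import Groth.Agent.Divis.AssRing
import Groth.Agent.Divis.WeakAss
import Groth.Agent.Fdesc.QCohStalk
import Mathlib.RingTheory.Ideal.AssociatedPrime.Finiteness

/-!
# Sections of torsion-free quasi-coherent modules vanishing on a schematically dense open
-/

set_option autoImplicit false
universe u
open CategoryTheory AlgebraicGeometry TopologicalSpace Opposite

namespace K870.TorFree

variable {X : Scheme.{u}}

/-- On a locally Noetherian scheme a section over an affine open of a torsion-free quasi-coherent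
module which vanishes on a schematically dense open is zero. -/
theorem eq_zero_of_affine [IsLocallyNoetherian X] {F : X.Modules} (hF : Coh.IsQCoh F)
    {W : X.Opens} (hW : IsAffineOpen W)
    (htf : Submodule.torsion Γ(X, W) (F.val.obj (op W)) = ⊥)
    {U : X.Opens} (hU : CInt.IsSchematicallyDense U) (s : Γ(F, W))
    (hs : F.presheaf.map (homOfLE (inf_le_left : W ⊓ U ≤ W)).op s = 0) : s = 0 := by
  have hN : IsNoetherianRing Γ(X, W) := IsLocallyNoetherian.component_noetherian ⟨W, hW⟩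
  have hass := (Groth.Agent.S1699.result X U).mp hU
  -- the annihilator of `s`
  let J : Ideal Γ(X, W) := (LinearMap.toSpanSingleton Γ(X, W) Γ(F, W) s).ker
  have hJ : ∀ t, t ∈ J ↔ t • s = 0 := fun t => by simp [J]
  by_cases hreg : ∃ t ∈ J, t ∈ nonZeroDivisors Γ(X, W)
  · obtain ⟨t, htJ, ht⟩ := hreg
    have h1 : (s : F.val.obj (op W)) ∈ Submodule.torsion Γ(X, W) (F.val.obj (op W)) :=
      ⟨⟨t, ht⟩, (hJ t).1 htJ⟩
    rw [htf] at h1
    exact (Submodule.mem_bot _).1 h1
  · exfalso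
    have hsub : (J : Set Γ(X, W)) ⊆
        ⋃ p ∈ associatedPrimes Γ(X, W) Γ(X, W), (id p : Ideal Γ(X, W)) := by
      intro t ht
      have h2 : t ∈ (nonZeroDivisors Γ(X, W) : Set Γ(X, W))ᶜ := fun h => hreg ⟨t, ht, h⟩
      rw [← biUnion_associatedPrimes_eq_compl_nonZeroDivisors] at h2
      exact h2
    rw [Ideal.subset_union_prime_finite (associatedPrimes.finite _ _) (f := id) 0 0
      fun _ h _ _ => h.1] at hsub
    obtain ⟨p, hp, hle⟩ := hsub
    obtain ⟨x, hx, hxp⟩ := Groth.Agent.Divis.WeakAss.exists_point hW ⟨p, hp.1⟩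
    have hxp' : (hW.primeIdealOf ⟨x, hx⟩).asIdeal = p := congr_arg PrimeSpectrum.asIdeal hxp
    have hxU : x ∈ U := by
      apply hass
      rw [Groth.Agent.Divis.AssRing.isAssociatedPrime_stalk_iff hW hx, hxp']
      exact hp
    obtain ⟨g, hgU, hxg⟩ := hW.exists_basicOpen_le (V := W ⊓ U) ⟨x, hx, hxU⟩ hx
    have h0 : F.presheaf.map (homOfLE (X.basicOpen_le g)).op s = 0 := by
      have : (homOfLE (X.basicOpen_le g)).op =
          (homOfLE (inf_le_left : W ⊓ U ≤ W)).op ≫ (homOfLE hgU).op := rfl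
      rw [this, F.presheaf.map_comp]
      change F.presheaf.map (homOfLE hgU).op (F.presheaf.map (homOfLE _).op s) = 0
      rw [hs, map_zero]
    obtain ⟨n, hn⟩ := Groth.Agent.Fdesc.QCohStalk.exists_pow_smul_eq_zero F hW hF g s h0
    have h3 : g ^ n ∈ p := hle ((hJ _).2 hn)
    have h4 : g ∈ p := hp.1.mem_of_pow_mem _ h3
    exact (Groth.Agent.Fdesc.QCohStalk.mem_basicOpen_iff hW x hx g).mp hxg (by rw [hxp']; exact h4)

/-- The same over any open. -/
theorem eq_zero [IsLocallyNoetherian X] {F : X.Modules} (hF : Coh.IsQCoh F)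
    (htf : ∀ V : X.affineOpens, Submodule.torsion Γ(X, V.1) (F.val.obj (op V.1)) = ⊥)
    {U : X.Opens} (hU : CInt.IsSchematicallyDense U) {V : X.Opens} (s : Γ(F, V))
    (hs : F.presheaf.map (homOfLE (inf_le_left : V ⊓ U ≤ V)).op s = 0) : s = 0 := by
  let I := {W : X.affineOpens // W.1 ≤ V}
  have hcov : (⨆ i : I, i.1.1 : X.Opens) = V := by
    apply le_antisymm (iSup_le fun i => i.2)
    intro x hx
    obtain ⟨W, hW, hxW, hWV⟩ := exists_isAffineOpen_mem_and_subset (U := V) hx
    exact Opens.mem_iSup.2 ⟨⟨⟨W, hW⟩, hWV⟩, hxW⟩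
  refine TopCat.Sheaf.eq_of_locally_eq' (F := (Coh.toAb F : TopCat.Sheaf AddCommGrpCat.{u} X))
    (fun i : I => i.1.1) V (fun i => homOfLE i.2) hcov.ge s 0 fun i => ?_
  rw [map_zero]
  refine eq_zero_of_affine hF i.1.2 (htf i.1) hU _ ?_
  change F.presheaf.map _ (F.presheaf.map _ s) = 0
  have h1 : F.presheaf.map (homOfLE (inf_le_left : i.1.1 ⊓ U ≤ i.1.1)).op
      (F.presheaf.map (homOfLE i.2).op s) =
      F.presheaf.map (homOfLE (inf_le_inf_right U i.2 : i.1.1 ⊓ U ≤ V ⊓ U)).op
        (F.presheaf.map (homOfLE (inf_le_left : V ⊓ U ≤ V)).op s) := by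
    rw [← CategoryTheory.comp_apply, ← CategoryTheory.comp_apply, ← F.presheaf.map_comp,
      ← F.presheaf.map_comp]
    rfl
  rw [h1, hs, map_zero]

end K870.TorFree
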